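import Cfsg.Agent.Lib.AltTwelve.Sp.Model

/-!
# The data from which the alternating group of degree twelve is built

Points are numbered from `0`; the fours are `{0,1,2,3}`, `{4,5,6,7}`, `{8,9,10,11}`.
-/

set_option autoImplicit false

namespace Cfsg.Agent.AltTwelve.Gen

open Cfsg.Agent.AltTwelve.Sp

universe u

/-- The three-cycle `1 ↦ 2 ↦ 3 ↦ 1` of the first four. -/
def g12 : Equiv.Perm (Fin 12) := Equiv.swap (1 : Fin 12) 2 * Equiv.swap (2 : Fin 12) 3

/-- The flips of the second and the third block. -/
def fP : Equiv.Perm (Fin 12) := Equiv.swap (2 : Fin 12) 3 * Equiv.swap (4 : Fin 12) 5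

/-- The exchange of the first two fours. -/
def qP : Equiv.Perm (Fin 12) :=
  Equiv.swap (0 : Fin 12) 4 * Equiv.swap (1 : Fin 12) 5 * Equiv.swap (2 : Fin 12) 6 * Equiv.swap (3 : Fin 12) 7

/-- An element of order three normalizing the fours: it acts on the centralizer of `al` and of its
conjugate under `g12` as `g12` does, is inverted by `fP` and commutes with its conjugate under `qP`. -/
structure Base {G : Type u} [Group G] (a : G) (ψ : C0 →* G) (g : G) : Prop where
  inj : Function.Injective ψ
  range : ψ.range = Subgroup.centralizer ({a} : Set G)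
  alpha : ψ alC = a
  /-- the involutions of different supports stay apart -/
  ne : ∀ c d : C0, c * c = 1 → d * d = 1 → IsConj (ψ c) (ψ d) → c.val.support.card = d.val.support.card
  cube : g ^ 3 = 1
  /-- the action on the common centralizer of `al` and its conjugate -/
  act : ∀ c : C0, c.val * (g12 * al * g12⁻¹) = g12 * al * g12⁻¹ * c.val →
    ∀ c' : C0, c'.val = g12 * c.val * g12⁻¹ → g * ψ c * g⁻¹ = ψ c'
  flip : ∀ c : C0, c.val = fP → ψ c * g * (ψ c)⁻¹ = g⁻¹
  comm : ∀ c : C0, c.val = qP → Commute g (ψ c * g * (ψ c)⁻¹)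

end Cfsg.Agent.AltTwelve.Gen
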