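import Cfsg.Agent.Lib.AltTwelve.Gen.Rel

/-!
# The relations of the two elements of order three and their normalizer inside the centralizer
-/

set_option autoImplicit false
set_option maxRecDepth 100000
set_option linter.unusedSectionVars false

namespace Cfsg.Agent.AltTwelve.Gen

open Cfsg.Agent.AltTwelve.Sp

universe u

/-- The exchange of the first two fours. -/
def qW : List ℕ := [1, 0, 2, 1]

/-- The flips of the second and third block. -/
def fW : List ℕ := [0, 1, 5, 1, 0]

/-- The flip of the third and fourth block. -/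
def eW : List ℕ := [1, 0, 2, 1, 5, 1, 0, 2, 1]

/-- The element inverting both elements of order three. -/
def sW : List ℕ := fW ++ eW

/-- The conjugate element of order three. -/
def g2W : List ℕ := qW ++ [6] ++ qW

theorem word_facts : valP qW = qP ∧ valP fW = fP ∧ valP sW * valP sW = 1 ∧ valP qW * valP qW = 1 ∧
    valP sW * valP qW = valP qW * valP sW := by
  decide +kernel

variable {G : Type u} [Group G] {a g : G} {ψ : C0 →* G}

theorem cl_sq (ψ : C0 →* G) (g : G) {w : List ℕ} (hw : ∀ i ∈ w, i < 6) (h : valP w * valP w = 1) :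
    val ψ g w * val ψ g w = 1 := by
  rw [← val_append]
  rw [seg_eq ψ g (w := []) (by simpa using hw) (by simp)
    (congrArg code (show valP (w ++ w) = valP [] by simpa [valP] using h))]
  rfl

/-- An element of the centralizer moved by a word where the word acts. -/
theorem rel_run (D : Base a ψ g) (w z z' : List ℕ) (hz : ∀ i ∈ z, i < 6) (hz' : ∀ i ∈ z', i < 6)
    (h : run w (code (valP z)) = some (code (valP z'))) :
    val ψ g w * val ψ g z * (val ψ g w)⁻¹ = val ψ g z' := by
  obtain ⟨h1, h2⟩ := val_fst_cl ψ g z hz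
  obtain ⟨h1', h2'⟩ := val_fst_cl ψ g z' hz'
  rw [← h2] at h
  obtain ⟨c, hc, e1, e2⟩ := run_sound D w (clW z) _ h
  obtain rfl : c = clW z' := Subtype.ext ((code_injective hc).trans h2'.symm)
  refine Prod.ext ?_ ?_
  · rw [Prod.fst_mul, Prod.fst_mul, Prod.fst_inv, h1, h1', e2]
  · rw [Prod.snd_mul, Prod.snd_mul, Prod.snd_inv, val_snd, val_snd, val_snd, ← h2, ← h2', e1]

theorem run_fix_e : run [6] (code (valP eW)) = some (code (valP eW)) := by decide +kernel

/-- The four relations. -/
theorem prim (D : Base a ψ g) :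
    val ψ g [6] ^ 3 = 1 ∧ val ψ g sW * val ψ g [6] * val ψ g sW = (val ψ g [6])⁻¹ ∧
      val ψ g sW * val ψ g g2W * val ψ g sW = (val ψ g g2W)⁻¹ ∧
      val ψ g qW * val ψ g [6] * val ψ g qW = val ψ g g2W ∧
      Commute (val ψ g [6]) (val ψ g g2W) := by
  obtain ⟨hq, hf, hs, hqq, hsq⟩ := word_facts
  have g6 : val ψ g [6] = (g, g12) := by simp [val, st]
  have q2 := cl_sq ψ g (w := qW) (by decide) hqq
  have hfw : ∀ i ∈ fW, i < 6 := by decide
  have hff : val ψ g fW * val ψ g [6] * val ψ g fW = (val ψ g [6])⁻¹ := by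
    have e : fP * fP = 1 := by decide +kernel
    have f2 := cl_sq ψ g hfw (by rw [hf, e])
    rw [show val ψ g fW * val ψ g [6] * val ψ g fW = val ψ g fW * val ψ g [6] * (val ψ g fW)⁻¹ by
      rw [inv_eq_of_mul_eq_one_left f2]]
    obtain ⟨h1, h2⟩ := val_fst_cl ψ g fW hfw
    refine Prod.ext ?_ ?_
    · rw [Prod.fst_mul, Prod.fst_mul, Prod.fst_inv, h1, g6, Prod.fst_inv]
      exact D.flip _ (h2.trans hf)
    · rw [Prod.snd_mul, Prod.snd_mul, Prod.snd_inv, Prod.snd_inv, val_snd, hf, g6]
      exact (show fP * g12 * fP⁻¹ = g12⁻¹ by decide +kernel)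
  have he := rel_run D [6] eW eW (by decide) (by decide) run_fix_e
  have hs1 : val ψ g sW * val ψ g [6] * val ψ g sW = (val ψ g [6])⁻¹ := by
    have e2 := cl_sq ψ g (w := eW) (by decide) (by decide +kernel)
    have hfe : val ψ g sW = val ψ g eW * val ψ g fW := by
      rw [← val_append]
      exact seg_eq ψ g (by decide) (by decide) (by decide +kernel)
    calc val ψ g sW * val ψ g [6] * val ψ g sW
        = val ψ g fW * (val ψ g eW * val ψ g [6]) * (val ψ g eW * val ψ g fW) := by
          conv_lhs => arg 2; rw [hfe]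
          rw [sW, val_append]; group
      _ = val ψ g fW * (val ψ g [6] * (val ψ g eW * val ψ g eW)) * val ψ g fW := by
          rw [← mul_inv_eq_iff_eq_mul.1 he]; group
      _ = _ := by rw [e2, mul_one, hff]
  refine ⟨?_, hs1, ?_, by simp only [g2W, val_append], ?_⟩
  · rw [g6]
    exact Prod.ext D.cube (by
      change g12 ^ 3 = 1
      decide +kernel)
  · have hc : val ψ g sW * val ψ g qW = val ψ g qW * val ψ g sW := by
      rw [← val_append, ← val_append]
      exact seg_eq ψ g (by decide) (by decide)
        (congrArg code (show valP (sW ++ qW) = valP (qW ++ sW) by simpa [valP] using hsq))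
    simp only [g2W, val_append]
    have key : ∀ {H : Type u} [Group H] {x y t : H}, x * y = y * x → y * y = 1 →
        x * t * x = t⁻¹ → x * (y * t * y) * x = (y * t * y)⁻¹ := by
      intro H _ x y t hxy hyy ht
      calc x * (y * t * y) * x = (x * y) * t * (y * x) := by group
        _ = y * (x * t * x) * y := by rw [hxy, ← hxy]; conv_lhs => arg 1; arg 1; rw [hxy]
                                      group
        _ = _ := by rw [ht, mul_inv_rev, mul_inv_rev, inv_eq_of_mul_eq_one_left hyy, mul_assoc]
    exact key hc q2 hs1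
  · obtain ⟨h1, h2⟩ := val_fst_cl ψ g qW (by decide)
    have e : qW.map id = qW := List.map_id _
    have hinv : val ψ g qW = (val ψ g qW)⁻¹ := (inv_eq_of_mul_eq_one_left q2).symm
    rw [show val ψ g g2W = val ψ g qW * val ψ g [6] * (val ψ g qW)⁻¹ by
      simp only [g2W, val_append]; rw [← hinv], g6]
    refine Prod.ext ?_ ?_
    · simp only [Prod.fst_mul, Prod.fst_inv, h1]
      exact (D.comm (clW qW) (h2.trans hq)).eq
    · simp only [Prod.snd_mul, Prod.snd_inv, val_snd, hq]
      decide +kernel

end Cfsg.Agent.AltTwelve.Gen
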