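import Cfsg.Agent.Lib.AltTwelve.Gen.CertData
import Cfsg.Agent.Lib.AltTwelve.Gen.Prim

/-!
# The braid relation

The relations proved so far hold in `G × P12`; a coset enumeration shows that the word of the braid relation
lies in a subgroup on which the second projection is injective.
-/

set_option autoImplicit false
set_option maxRecDepth 100000
set_option linter.unusedSectionVars false

namespace Cfsg.Agent.AltTwelve.Gen

open Cfsg.Agent.AltTwelve.Sp

universe u

/-- The letters of the enumeration as words. -/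
def Lw : ℕ → List ℕ
  | 0 => [0]
  | 1 => [1]
  | 2 => [2]
  | 3 => [5]
  | 4 => fW
  | 5 => qW
  | 6 => [6] ++ fW
  | 7 => qW ++ [6] ++ fW ++ qW
  | _ => []

/-- The word of a word of the enumeration, first letter first. -/
def expand (w : List ℕ) : List ℕ := (w.reverse.map Lw).flatten

/-- The other form of a letter of order three. -/
def Lv : ℕ → List ℕ
  | 6 => fW ++ [7]
  | 7 => qW ++ fW ++ [7] ++ qW
  | x => Lw x

/-- The word, with chosen forms of the letters of order three. -/
def expV : ℕ → List ℕ → List ℕ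
  | _, [] => []
  | m, x :: r =>
    if x < 6 then Lw x ++ expV m r else (if m % 2 = 0 then Lw x else Lv x) ++ expV (m / 2) r

/-- The rotation that starts at a letter of order three. -/
def rotG (w : List ℕ) : List ℕ := w.dropWhile (fun i => decide (i < 6)) ++ w.takeWhile (fun i => decide (i < 6))

/-- An element acted on by the element of order three. -/
def actW (z z' : List ℕ) : List ℕ := [6] ++ z ++ [7] ++ winv z'

/-- The pairs moved by the element of order three. -/
def actL : List (List ℕ × List ℕ) :=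
  [([2], [2]), (eW, eW), ([0], [0, 5]), ([5], [0])]

/-- The words known to be the identity. -/
def bases : List (List ℕ) :=
  [[6, 6, 6], [7, 7, 7], sW ++ [6] ++ sW ++ [6], sW ++ [7] ++ sW ++ [7], [6] ++ fW ++ [6] ++ fW,
    [7] ++ fW ++ [7] ++ fW, [6] ++ g2W ++ [7] ++ winv g2W] ++ actL.map (fun p => actW p.1 p.2) ++
    charts.map fun C => (List.replicate C.n (C.yw ++ C.cw)).flatten

/-- The forms of a product of the two elements of order three. -/
def yForms : List (List ℕ) :=
  [[6] ++ g2W, [7] ++ winv g2W, g2W ++ [6], winv g2W ++ [7],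
    [6] ++ winv g2W, [7] ++ g2W, winv g2W ++ [6], g2W ++ [7]]

theorem relW_ok : ((relW.zip hints).all fun p => trivAt (bases.map rotG) p.2.2 (expV p.2.1 p.1.reverse)) = true := by
  decide +kernel

theorem hints_len : relW.length = hints.length := by decide +kernel

theorem actL_ok : (actL.all fun p => p.1.all (fun i => decide (i < 6)) && p.2.all (fun i => decide (i < 6)) &&
    run [6] (code (valP p.1)) == some (code (valP p.2))) = true := by decide +kernel

theorem charts_ok : (charts.all fun C => C.ok &&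
    [(C.yw, C.tw), (C.kh, C.kt)].all (fun p => ((yForms.take 4).map key).contains (key p.1) && key p.2 == key qW ||
      ((yForms.drop 4).map key).contains (key p.1) && key p.2 == key (sW ++ qW)) &&
    powC (code (valP (C.yw ++ C.cw))) C.n == code 1) = true := by decide +kernel

theorem word_invol : ∀ x : Fin 8, key (Lw x.val ++ Lw x.val) = key [] ∨ x.val = 6 ∨ x.val = 7 := by
  decide +kernel

variable {G : Type u} [Group G] {a g : G} {ψ : C0 →* G}

theorem val_replicate (ψ : C0 →* G) (g : G) (w : List ℕ) : ∀ n,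
    val ψ g (List.replicate n w).flatten = val ψ g w ^ n
  | 0 => by simp [val]
  | n + 1 => by rw [List.replicate_succ, List.flatten_cons, val_append, val_replicate ψ g w n, pow_succ']

theorem inv_seven (D : Base a ψ g) : val ψ g [7] = (val ψ g [6])⁻¹ := val_winv D [6]

theorem commute_forms (D : Base a ψ g) :
    (∀ y ∈ yForms.take 4, Commute (val ψ g y) (val ψ g qW)) ∧
      ∀ y ∈ yForms.drop 4, Commute (val ψ g y) (val ψ g (sW ++ qW)) := by
  obtain ⟨-, hs1, hs2, hq, hc⟩ := prim D
  have q2 : val ψ g qW * val ψ g qW = 1 := cl_sq ψ g (by decide) word_facts.2.2.2.1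
  have s2 : val ψ g sW * val ψ g sW = 1 := cl_sq ψ g (by decide) word_facts.2.2.1
  set x := val ψ g [6]
  set y := val ψ g g2W
  set q := val ψ g qW
  set s := val ψ g sW
  have qi := inv_eq_of_mul_eq_one_left q2
  have si := inv_eq_of_mul_eq_one_left s2
  have cq : ∀ z, q * z * q = MulAut.conj q z := fun z => by rw [MulAut.conj_apply, qi]
  have cs : ∀ z, s * z * s = MulAut.conj s z := fun z => by rw [MulAut.conj_apply, si]
  have hqy : MulAut.conj q y = x := by
    rw [← cq, ← hq, show q * (q * x * q) * q = q * q * x * (q * q) by group, q2, one_mul, mul_one]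
  have hqx : MulAut.conj q x = y := by rw [← cq, hq]
  have hsx : MulAut.conj s x = x⁻¹ := by rw [← cs, hs1]
  have hsy : MulAut.conj s y = y⁻¹ := by rw [← cs, hs2]
  have toC : ∀ {u z : G × P12}, MulAut.conj u z = z → Commute z u := fun {u z} h => by
    rw [MulAut.conj_apply, mul_inv_eq_iff_eq_mul] at h
    exact h.symm
  have hsq : ∀ z, MulAut.conj (s * q) z = MulAut.conj s (MulAut.conj q z) := fun z => by
    rw [map_mul]; rfl
  have f7 : val ψ g [7] = x⁻¹ := inv_seven D
  have fy : val ψ g (winv g2W) = y⁻¹ := val_winv D _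
  have e1 : MulAut.conj q (x * y) = x * y := by rw [map_mul, hqx, hqy, hc.eq]
  have e2 : MulAut.conj (s * q) (x * y⁻¹) = x * y⁻¹ := by
    rw [hsq, map_mul, map_inv, hqx, hqy, map_mul, map_inv, hsx, hsy, inv_inv, hc.inv_right.eq]
  constructor
  · intro w hw
    simp only [yForms, List.take_succ_cons, List.take_zero, List.mem_cons, List.not_mem_nil, or_false] at hw
    have k1 : Commute (x * y) q := toC e1
    rcases hw with rfl | rfl | rfl | rfl <;> rw [val_append]
    · exact k1
    · rw [f7, fy, ← mul_inv_rev, ← hc.eq]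
      exact k1.inv_left
    · rw [← hc.eq]
      exact k1
    · rw [f7, fy, ← mul_inv_rev]
      exact k1.inv_left
  · intro w hw
    simp only [yForms, List.drop_succ_cons, List.drop_zero, List.mem_cons, List.not_mem_nil, or_false] at hw
    rw [val_append (v := sW)]
    have k2 : Commute (x * y⁻¹) (s * q) := toC e2
    rcases hw with rfl | rfl | rfl | rfl <;> rw [val_append]
    · rw [fy]; exact k2
    · rw [f7, show x⁻¹ * y = (x * y⁻¹)⁻¹ by rw [mul_inv_rev, inv_inv, hc.inv_left.eq]]
      exact k2.inv_left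
    · rw [fy, ← hc.inv_right.eq]; exact k2
    · rw [f7, show y * x⁻¹ = (x * y⁻¹)⁻¹ by rw [mul_inv_rev, inv_inv]]
      exact k2.inv_left

theorem bases_one (D : Base a ψ g) : ∀ b ∈ bases, val ψ g b = 1 := by
  obtain ⟨h3, hs1, -, -, hc⟩ := prim D
  have hf : val ψ g fW * val ψ g [6] * val ψ g fW = (val ψ g [6])⁻¹ := by
    obtain ⟨h1, h2⟩ := val_fst_cl ψ g fW (by decide)
    have f2 := cl_sq ψ g (w := fW) (by decide) (by decide +kernel)
    rw [show val ψ g fW * val ψ g [6] * val ψ g fW = val ψ g fW * val ψ g [6] * (val ψ g fW)⁻¹ by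
      rw [inv_eq_of_mul_eq_one_left f2]]
    refine Prod.ext ?_ ?_
    · rw [Prod.fst_mul, Prod.fst_mul, Prod.fst_inv, h1, Prod.fst_inv]
      simpa [val, st] using D.flip _ (h2.trans word_facts.2.1)
    · rw [Prod.snd_mul, Prod.snd_mul, Prod.snd_inv, Prod.snd_inv, val_snd, val_snd]
      exact (show valP fW * valP [6] * (valP fW)⁻¹ = (valP [6])⁻¹ by decide +kernel)
  intro b hb
  simp only [bases, List.mem_append, List.mem_cons, List.not_mem_nil, or_false, List.mem_map] at hb
  rcases hb with ((rfl | rfl | rfl | rfl | rfl | rfl | rfl) | ⟨p, hp, rfl⟩) | ⟨C, hC, rfl⟩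
  · rw [show val ψ g [6, 6, 6] = val ψ g [6] ^ 3 by simp [val, pow_three]]
    exact h3
  · rw [show val ψ g [7, 7, 7] = (val ψ g [6] ^ 3)⁻¹ by rw [← inv_pow, ← inv_seven D]; simp [val, pow_three],
      h3, inv_one]
  · rw [val_append, val_append, val_append, hs1, inv_mul_cancel]
  · have e := congrArg (·⁻¹) hs1
    simp only [mul_inv_rev, inv_inv,
      inv_eq_of_mul_eq_one_left (cl_sq ψ g (w := sW) (by decide) word_facts.2.2.1)] at e
    rw [val_append, val_append, val_append, inv_seven D, mul_assoc (val ψ g sW) _ (val ψ g sW), e,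
      mul_inv_cancel]
  · rw [val_append, val_append, val_append,
      show val ψ g [6] * val ψ g fW * val ψ g [6] * val ψ g fW =
        val ψ g [6] * (val ψ g fW * val ψ g [6] * val ψ g fW) by group, hf, mul_inv_cancel]
  · have e := congrArg (·⁻¹) hf
    simp only [mul_inv_rev, inv_inv,
      inv_eq_of_mul_eq_one_left (cl_sq ψ g (w := fW) (by decide) (by decide +kernel))] at e
    rw [val_append, val_append, val_append, inv_seven D,
      show (val ψ g [6])⁻¹ * val ψ g fW * (val ψ g [6])⁻¹ * val ψ g fW =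
        (val ψ g [6])⁻¹ * (val ψ g fW * ((val ψ g [6])⁻¹ * val ψ g fW)) by group, e, inv_mul_cancel]
  · rw [val_append, val_append, val_append, inv_seven D, val_winv D, hc.eq, mul_inv_cancel_right,
      mul_inv_cancel]
  · have h := List.all_eq_true.1 actL_ok p hp
    simp only [Bool.and_eq_true, List.all_eq_true, decide_eq_true_eq, beq_iff_eq] at h
    obtain ⟨⟨l1, l2⟩, h⟩ := h
    rw [actW, val_append, val_append, val_append, inv_seven D, val_winv D,
      rel_run D [6] p.1 p.2 l1 l2 h, mul_inv_cancel]
  · have h := List.all_eq_true.1 charts_ok C hC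
    simp only [Bool.and_eq_true, List.all_cons, List.all_nil, Bool.or_eq_true, List.contains_iff_mem,
      List.mem_map, beq_iff_eq, and_true] at h
    obtain ⟨⟨hok, hy, hk⟩, hpow⟩ := h
    obtain ⟨c1, c2⟩ := commute_forms D
    have tr : ∀ {v t : List ℕ}, (((∃ w ∈ yForms.take 4, key w = key v) ∧ key t = key qW) ∨
        ((∃ w ∈ yForms.drop 4, key w = key v) ∧ key t = key (sW ++ qW))) →
        Commute (val ψ g v) (val ψ g t) := by
      rintro v t (⟨⟨w, hw, e⟩, et⟩ | ⟨⟨w, hw, e⟩, et⟩)
      · rw [← key_sound ψ g e, key_sound ψ g et]; exact c1 w hw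
      · rw [← key_sound ψ g e, key_sound ψ g et]; exact c2 w hw
    rw [val_replicate]
    exact Chart.sound D C hok (tr hy) (tr hk) (code_injective (by rw [code_pow, hpow]))

/-- The elements of the subgroup on which the projection is injective. -/
def InX (ψ : C0 →* G) (g : G) (r : G × P12) : Prop :=
  ∃ (c : C0) (i j : Fin 3), r = (ψ c, c.val) * (val ψ g [6] ^ i.val * val ψ g g2W ^ j.val)

theorem gp_kernel : ∀ i j : Fin 3, code (valP [6] ^ i.val * valP g2W ^ j.val * al) =
    code (al * (valP [6] ^ i.val * valP g2W ^ j.val)) → i.val = 0 ∧ j.val = 0 := by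
  decide +kernel

theorem InX.eq_one (D : Base a ψ g) {r : G × P12} (h : InX ψ g r) (h1 : r.2 = 1) : r = 1 := by
  obtain ⟨c, i, j, rfl⟩ := h
  simp only [Prod.snd_mul, Prod.pow_snd, val_snd] at h1
  have hcomm : Commute c.val al := (alC_central c).map C0.subtype
  have e : valP [6] ^ i.val * valP g2W ^ j.val = c.val⁻¹ := eq_inv_of_mul_eq_one_right h1
  obtain ⟨hi, hj⟩ := gp_kernel i j (congrArg code (by rw [e]; exact hcomm.inv_left.eq))
  simp only [hi, hj, pow_zero, mul_one] at h1 ⊢
  rw [show c = 1 from Subtype.ext h1, map_one]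
  rfl

/-- The generators of the subgroup, by simpler ones. -/
def subP : List (List ℕ) :=
  [[0], [2], [5], sW ++ eW, qW, [6] ++ sW ++ eW, qW ++ [6] ++ sW ++ eW ++ qW, sW ++ [5] ++ [0, 5, 0]]

theorem subW_ok : (subW.all fun s => ((([] : List ℕ) :: subP).map key).contains (key (expand s)) ||
    key (expand s) == key (sW ++ [5] ++ eW)) = true := by decide +kernel

/-- The words preserved by the two elements of order three. -/
def runsA : List (List ℕ) := [[0], [2], [5], eW]

theorem runsA_ok : ∀ z ∈ runsA, ∀ i j : Fin 3, (run ((List.replicate j.val g2W).flatten ++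
    (List.replicate i.val [6]).flatten) (code (valP z))).isSome = true := by decide +kernel

/-- Right multiplication keeps the subgroup. -/
def Keeps (ψ : C0 →* G) (g : G) (w : List ℕ) : Prop :=
  ∀ r, InX ψ g r → InX ψ g (r * val ψ g w)

theorem Keeps.append {v w : List ℕ} (hv : Keeps ψ g v) (hw : Keeps ψ g w) : Keeps ψ g (v ++ w) :=
  fun r hr => by rw [val_append, ← mul_assoc]; exact hw _ (hv r hr)

theorem mod_pow {x : G × P12} (h : x ^ 3 = 1) (n : ℕ) : x ^ n = x ^ (n % 3) := by
  conv_lhs => rw [← Nat.mod_add_div n 3]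
  rw [pow_add, pow_mul, h, one_pow, mul_one]

theorem keeps_prim (D : Base a ψ g) :
    Keeps ψ g [6] ∧ Keeps ψ g sW ∧ Keeps ψ g qW ∧ ∀ z ∈ runsA, Keeps ψ g z := by
  obtain ⟨h3, hs1, hs2, hq, hc⟩ := prim D
  have q2 : val ψ g qW * val ψ g qW = 1 := cl_sq ψ g (by decide) word_facts.2.2.2.1
  have s2 : val ψ g sW * val ψ g sW = 1 := cl_sq ψ g (by decide) word_facts.2.2.1
  set x := val ψ g [6] with hx
  set y := val ψ g g2W with hy
  have qi := inv_eq_of_mul_eq_one_left q2
  have si := inv_eq_of_mul_eq_one_left s2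
  have y3 : y ^ 3 = 1 := by
    rw [← hq, show val ψ g qW * x * val ψ g qW = val ψ g qW * x * (val ψ g qW)⁻¹ by rw [qi], conj_pow, h3,
      mul_one, mul_inv_cancel]
  have mk : ∀ (c : C0) (n m : ℕ) (r : G × P12), r = (ψ c, c.val) * (x ^ n * y ^ m) → InX ψ g r := by
    intro c n m r e
    refine ⟨c, ⟨n % 3, Nat.mod_lt _ (by norm_num)⟩, ⟨m % 3, Nat.mod_lt _ (by norm_num)⟩, ?_⟩
    rw [e, mod_pow h3 n, mod_pow y3 m]
  have hcl : ∀ w : List ℕ, (∀ i ∈ w, i < 6) → ∀ c : C0,
      (ψ c, c.val) * val ψ g w = (ψ (c * clW w), (c * clW w).val) := fun w hw c => by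
    rw [val_cl ψ g w hw, Prod.mk_mul_mk, map_mul]; rfl
  refine ⟨?_, ?_, ?_, ?_⟩
  · rintro r ⟨c, i, j, rfl⟩
    refine mk c (i.val + 1) j.val _ ?_
    rw [mul_assoc, mul_assoc, ((hc.pow_right j.val).symm).eq, ← mul_assoc (x ^ i.val), pow_succ]
  · rintro r ⟨c, i, j, rfl⟩
    refine mk (c * clW sW) (2 * i.val) (2 * j.val) _ ?_
    have hx2 : x ^ 2 = x⁻¹ := eq_inv_of_mul_eq_one_left (by rw [← pow_succ, h3])
    have hy2 : y ^ 2 = y⁻¹ := eq_inv_of_mul_eq_one_left (by rw [← pow_succ, y3])
    have e : ∀ z n, (val ψ g sW * z * val ψ g sW) ^ n = val ψ g sW * z ^ n * val ψ g sW := fun z n => by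
      rw [show val ψ g sW * z * val ψ g sW = val ψ g sW * z * (val ψ g sW)⁻¹ by rw [si], conj_pow, si]
    rw [← hcl sW (by decide) c, pow_mul, pow_mul, hx2, hy2, ← hs1, ← hs2, e, e,
      mul_assoc (ψ c, c.val), mul_assoc (ψ c, c.val)]
    congr 1
    rw [show val ψ g sW * (val ψ g sW * x ^ i.val * val ψ g sW * (val ψ g sW * y ^ j.val * val ψ g sW)) =
      val ψ g sW * val ψ g sW * x ^ i.val * (val ψ g sW * val ψ g sW) * (y ^ j.val * val ψ g sW) by group,
      s2, one_mul, mul_one, mul_assoc]
  · rintro r ⟨c, i, j, rfl⟩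
    refine mk (c * clW qW) j.val i.val _ ?_
    have hyx : val ψ g qW * y * val ψ g qW = x := by
      rw [← hq, show val ψ g qW * (val ψ g qW * x * val ψ g qW) * val ψ g qW =
        val ψ g qW * val ψ g qW * x * (val ψ g qW * val ψ g qW) by group, q2, one_mul, mul_one]
    have e : ∀ z n, (val ψ g qW * z * val ψ g qW) ^ n = val ψ g qW * z ^ n * val ψ g qW := fun z n => by
      rw [show val ψ g qW * z * val ψ g qW = val ψ g qW * z * (val ψ g qW)⁻¹ by rw [qi], conj_pow, qi]
    rw [← hcl qW (by decide) c, mul_assoc (ψ c, c.val), mul_assoc (ψ c, c.val)]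
    congr 1
    have e1 : val ψ g qW * x ^ j.val = y ^ j.val * val ψ g qW := by
      rw [← hq, e, mul_assoc, q2, mul_one]
    have e2 : val ψ g qW * y ^ i.val = x ^ i.val * val ψ g qW := by
      rw [← hyx, e, mul_assoc, q2, mul_one]
    rw [← mul_assoc (val ψ g qW), e1, mul_assoc (y ^ j.val) (val ψ g qW), e2, ← mul_assoc]
    rw [← hx, ← hy]
    exact congrArg (· * val ψ g qW) (hc.pow_pow i.val j.val).eq
  · rintro z hz r ⟨c, i, j, rfl⟩
    have hz6 : ∀ k ∈ z, k < 6 := by revert z; decide +kernel
    obtain ⟨m, hm⟩ := Option.isSome_iff_exists.1 (runsA_ok z hz i j)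
    obtain ⟨h1, h2⟩ := val_fst_cl ψ g z hz6
    rw [← h2] at hm
    obtain ⟨c', -, f2, f1⟩ := run_sound D _ (clW z) m hm
    set w := (List.replicate j.val g2W).flatten ++ (List.replicate i.val [6]).flatten with hw
    have hv : val ψ g w = x ^ i.val * y ^ j.val := by
      rw [hw, val_append, val_replicate, val_replicate, ← hx, ← hy, (hc.pow_pow i.val j.val).eq]
    have hconj : val ψ g w * val ψ g z * (val ψ g w)⁻¹ = (ψ c', c'.val) := by
      refine Prod.ext ?_ ?_
      · rw [Prod.fst_mul, Prod.fst_mul, Prod.fst_inv, h1]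
        exact f1
      · rw [Prod.snd_mul, Prod.snd_mul, Prod.snd_inv, val_snd, val_snd, ← h2]
        exact f2.symm
    refine mk (c * c') i.val j.val _ ?_
    rw [show (ψ (c * c'), (c * c').val) = (ψ c, c.val) * (ψ c', c'.val) by rw [Prod.mk_mul_mk, map_mul]; rfl,
      ← hconj, hv, ← hx, ← hy]
    group

theorem keeps_sub (D : Base a ψ g) : ∀ s ∈ subW, Keeps ψ g (expand s) := by
  obtain ⟨k6, ks, kq, ka⟩ := keeps_prim D
  have k0 : Keeps ψ g [] := fun r hr => by rwa [show val ψ g [] = 1 from rfl, mul_one]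
  have ke : Keeps ψ g eW := ka eW (by simp [runsA])
  have k5 : Keeps ψ g [5] := ka [5] (by simp [runsA])
  intro s hs
  have h := List.all_eq_true.1 subW_ok s hs
  simp only [Bool.or_eq_true, List.contains_iff_mem, List.mem_map, beq_iff_eq, subP, List.mem_cons,
    List.not_mem_nil, or_false] at h
  rcases h with ⟨b, hb, e⟩ | e
  · suffices Keeps ψ g b by
      intro r hr
      rw [← key_sound ψ g e]
      exact this r hr
    rcases hb with rfl | rfl | rfl | rfl | rfl | rfl | rfl | rfl | rfl
    exacts [k0, ka [0] (by simp [runsA]), ka [2] (by simp [runsA]), k5, ks.append ke, kq,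
      (k6.append ks).append ke, (((kq.append k6).append ks).append ke).append kq,
      (ks.append k5).append (((ka [0] (by simp [runsA])).append k5).append (ka [0] (by simp [runsA])))]
  · intro r hr
    rw [key_sound ψ g e]
    exact (ks.append k5).append ke r hr

theorem Lv_eq (D : Base a ψ g) : ∀ x, val ψ g (Lv x) = val ψ g (Lw x) := by
  have hb := bases_one D ([6] ++ fW ++ [6] ++ fW) (by simp [bases])
  have e : val ψ g (fW ++ [7]) = val ψ g ([6] ++ fW) := by
    have f2 := cl_sq ψ g (w := fW) (by decide) (by decide +kernel)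
    rw [val_append, val_append, val_append] at hb
    rw [val_append, val_append, inv_seven D]
    rw [mul_inv_eq_iff_eq_mul]
    calc val ψ g fW = val ψ g [6] * val ψ g fW * val ψ g [6] * val ψ g fW * val ψ g fW := by rw [hb, one_mul]
      _ = _ := by rw [mul_assoc _ (val ψ g fW) (val ψ g fW), f2, mul_one]
  intro x
  unfold Lv
  split
  · exact e
  · simp only [Lw, val_append] at e ⊢
    rw [mul_assoc _ (val ψ g fW), e]
    group
  · rfl

theorem expV_eq (D : Base a ψ g) : ∀ (w : List ℕ) (m : ℕ),
    val ψ g (expV m w) = val ψ g (w.map Lw).flatten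
  | [], _ => rfl
  | x :: r, m => by
    rw [expV, List.map_cons, List.flatten_cons]
    split
    · rw [val_append, val_append, expV_eq D r m]
    · rw [val_append, val_append, expV_eq D r (m / 2)]
      split
      · rfl
      · rw [Lv_eq D]

theorem act_eq {Q : Type*} [MulAction (G × P12) Q] : ∀ (w : List ℕ) (q : Q),
    CosetCert.act (fun x => val ψ g (Lw x)) w q = val ψ g (expand w) • q
  | [], q => by simp [CosetCert.act, expand, val]
  | y :: w, q => by
    rw [CosetCert.act, act_eq w, expand, expand, List.reverse_cons, List.map_append, List.flatten_append,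
      val_append, mul_smul]
    simp

theorem steps_ok : CosetCert.rangeOK cert 0 cert.N = true := by decide +kernel

theorem start_ok : CosetCert.fM (cert.F.get 0) = 1 := by decide +kernel

theorem path_ok : (match CosetCert.walk cert.K cert.F cert.N pathLen pathBody 0 with
    | some (c, w, _) => c == 0 && w == target
    | none => false) = true := by decide +kernel

theorem target_perm : valP (expand target) = 1 := code_injective (by decide +kernel)

/-- The braid relation. -/
theorem braid (D : Base a ψ g) : val ψ g (expand target) = 1 := by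
  set gl : ℕ → G × P12 := fun x => val ψ g (Lw x) with hgl
  set H := Subgroup.closure {r : G × P12 | ∃ s ∈ subW, r = val ψ g (expand s)} with hH
  have hb : ∀ b ∈ bases.map rotG, val ψ g b = 1 := by
    intro b hb
    obtain ⟨b', hb', rfl⟩ := List.mem_map.1 hb
    have e := bases_one D b' hb'
    rw [← List.takeWhile_append_dropWhile (p := fun i => decide (i < 6)) (l := b'), val_append] at e
    rw [rotG, val_append]
    exact mul_eq_one_comm.1 e
  have hrel : ∀ w ∈ relW, val ψ g (expand w) = 1 := by
    intro w hw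
    obtain ⟨i, hi, rfl⟩ := List.getElem_of_mem hw
    have hi' : i < (relW.zip hints).length := by rw [List.length_zip, ← hints_len, Nat.min_self]; exact hi
    have h := List.all_eq_true.1 relW_ok _ (List.getElem_mem hi')
    have h' := trivAt_sound ψ g hb h
    rw [List.getElem_zip] at h'
    rwa [expV_eq D] at h'
  have hsq : ∀ x, gl x * gl x = 1 := by
    intro x
    have cl : ∀ w : List ℕ, (∀ i ∈ w, i < 6) → valP w * valP w = 1 → val ψ g w * val ψ g w = 1 :=
      fun w hw h => cl_sq ψ g hw h
    have hu : val ψ g ([6] ++ fW) * val ψ g ([6] ++ fW) = 1 := by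
      have h := bases_one D ([6] ++ fW ++ [6] ++ fW) (by simp [bases])
      rw [val_append, val_append, val_append, mul_assoc] at h
      rw [val_append]
      exact h
    simp only [hgl]
    match x with
    | 0 => exact cl [0] (by decide) (by decide +kernel)
    | 1 => exact cl [1] (by decide) (by decide +kernel)
    | 2 => exact cl [2] (by decide) (by decide +kernel)
    | 3 => exact cl [5] (by decide) (by decide +kernel)
    | 4 => exact cl fW (by decide) (by decide +kernel)
    | 5 => exact cl qW (by decide) (by decide +kernel)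
    | 6 => exact hu
    | 7 =>
      have q2 := cl qW (by decide) (by decide +kernel)
      have e : val ψ g (Lw 7) = val ψ g qW * val ψ g ([6] ++ fW) * val ψ g qW := by
        simp only [Lw, val_append, mul_assoc]
      rw [e, show val ψ g qW * val ψ g ([6] ++ fW) * val ψ g qW * (val ψ g qW * val ψ g ([6] ++ fW) * val ψ g qW) =
        val ψ g qW * val ψ g ([6] ++ fW) * (val ψ g qW * val ψ g qW) * val ψ g ([6] ++ fW) * val ψ g qW by group,
        q2, mul_one, mul_assoc (val ψ g qW) (val ψ g ([6] ++ fW)), hu, mul_one, q2]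
    | n + 8 => simp [Lw, val]
  have hS : CosetCert.Sat gl cert ((1 : G × P12) : (G × P12) ⧸ H) := by
    refine ⟨hsq, fun w hw q => ?_, fun w hw => ?_⟩
    · rw [act_eq, hrel w hw, one_smul]
    · rw [act_eq, MulAction.Quotient.smul_coe, QuotientGroup.eq, smul_eq_mul, mul_one, mul_one,
        inv_mem_iff]
      exact Subgroup.subset_closure ⟨w, hw, rfl⟩
  obtain ⟨q, hq0, hq⟩ := CosetCert.exists_naming gl cert _ hS start_ok fun i hi =>
    CosetCert.rangeOK_spec cert cert.N 0 steps_ok i (Nat.zero_le i) (by simpa using hi)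
  have hp := path_ok
  cases hwk : CosetCert.walk cert.K cert.F cert.N pathLen pathBody 0 with
  | none => rw [hwk] at hp; simp at hp
  | some p =>
  obtain ⟨c, w, b⟩ := p
  rw [hwk] at hp
  simp only [Bool.and_eq_true, beq_iff_eq] at hp
  obtain ⟨rfl, rfl⟩ := hp
  have hw := CosetCert.walk_sound gl cert q hsq hq _ _ _ hwk
  rw [hq0, act_eq, MulAction.Quotient.smul_coe, QuotientGroup.eq, smul_eq_mul, mul_one, mul_one,
    inv_mem_iff] at hw
  have hX : ∀ r ∈ H, ∀ r', InX ψ g r' → InX ψ g (r' * r) := by
    intro r hr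
    induction hr using Subgroup.closure_induction with
    | mem x hx => obtain ⟨s, hs, rfl⟩ := hx; exact keeps_sub D s hs
    | one => intro r' hr'; rwa [mul_one]
    | mul x y _ _ hx hy => intro r' hr'; rw [← mul_assoc]; exact hy _ (hx r' hr')
    | inv x hx' hx =>
      intro r' hr'
      let T : Set (G × P12) := {r | InX ψ g r}
      have hfin : T.Finite := by
        refine (Set.finite_range fun p : C0 × Fin 3 × Fin 3 =>
          (ψ p.1, p.1.val) * (val ψ g [6] ^ p.2.1.val * val ψ g g2W ^ p.2.2.val)).subset ?_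
        rintro r ⟨c, i, j, rfl⟩
        exact ⟨(c, i, j), rfl⟩
      have hsub : T ⊆ (fun z => z * x) '' T := by
        refine ((hfin.injOn_iff_bijOn_of_mapsTo (f := fun z => z * x) fun z hz => hx z hz).1
          (mul_left_injective x).injOn).surjOn
      obtain ⟨z, hz, e⟩ := hsub hr'
      rw [← e, mul_inv_cancel_right]
      exact hz
  have h1 : InX ψ g 1 := ⟨1, 0, 0, by rw [map_one, Fin.val_zero, pow_zero, pow_zero, one_mul, mul_one]; rfl⟩
  have h2 := hX _ hw 1 h1
  rw [one_mul] at h2
  exact h2.eq_one D (by rw [val_snd, target_perm])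

end Cfsg.Agent.AltTwelve.Gen
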