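import Cfsg.Agent.Lib.AltTwelve.Gen.Step

/-!
# Relations from the centralizer of a conjugate

An element `W = Y c` that centralizes the conjugate `K a K⁻¹` is `K x K⁻¹` with `x` in the centralizer of
`a`; its action where it is known leaves few possibilities for `x`, and their orders bound the order of `W`.
-/

set_option autoImplicit false
set_option maxRecDepth 100000
set_option linter.unusedSectionVars false

namespace Cfsg.Agent.AltTwelve.Gen

open Cfsg.Agent.AltTwelve.Sp

universe u

/-- The inverse word. -/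
def winv : List ℕ → List ℕ
  | [] => []
  | i :: w => winv w ++ [if i = 6 then 7 else if i = 7 then 6 else i]

/-- A power of a number. -/
def powC (c : ℕ) : ℕ → ℕ
  | 0 => code 1
  | n + 1 => mulC (powC c n) c

theorem code_pow (σ : P12) : ∀ n : ℕ, code (σ ^ n) = powC (code σ) n
  | 0 => by rw [pow_zero, powC]
  | n + 1 => by rw [pow_succ, code_mul, code_pow σ n, powC]

/-- The action of a product of the elements of order three, extended by an element commuting with it. -/
def moveY (y t : List ℕ) (z : ℕ) : Option ℕ :=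
  match run y z with
  | some m => some m
  | none => (run y (mulC z (code (valP t)))).map fun m => mulC m (code (valP t))

/-- The data of a relation: `W = Y c`, and `K = d h`; `tw` and `kt` commute with `Y` and `h`. -/
structure Chart where
  cw : List ℕ
  yw : List ℕ
  tw : List ℕ
  kc : List ℕ
  kh : List ℕ
  kt : List ℕ
  zs : List (List ℕ)
  n : ℕ

namespace Chart

variable (C : Chart)

/-- The action of `W` where it is known. -/
def move (z : ℕ) : Option ℕ := (run C.cw z).bind (moveY C.yw C.tw)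

/-- The action of `K`. -/
def kmove (z : ℕ) : Option ℕ := (moveY C.kh C.kt z).bind (run C.kc)

/-- The action of the inverse of `K`. -/
def kback (z : ℕ) : Option ℕ := (run (winv C.kc) z).bind (moveY (winv C.kh) C.kt)

/-- The condition given by one element. -/
def cond (z : List ℕ) : Option (ℕ × ℕ) :=
  (C.kmove (code (valP z))).bind fun m => (C.move m).bind fun m' =>
    (C.kback m').map fun m'' => (code (valP z), m'')

/-- The check. -/
def ok : Bool :=
  let cs := C.zs.map C.cond
  ([C.cw, C.tw, C.kt] ++ C.zs).all (fun w => w.all fun i => decide (i < 6)) &&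
    mulC (code (valP C.tw)) (code (valP C.tw)) == code 1 &&
    mulC (code (valP C.kt)) (code (valP C.kt)) == code 1 &&
    (match C.kmove alN with
      | some m => C.move m == some m
      | none => false) &&
    cs.all Option.isSome && (cands (cs.filterMap id)).all fun c => powC c C.n == code 1

end Chart

variable {G : Type u} [Group G] {a g : G} {ψ : C0 →* G}

theorem val_winv (D : Base a ψ g) : ∀ w : List ℕ, val ψ g (winv w) = (val ψ g w)⁻¹
  | [] => inv_one.symm
  | i :: w => by
    have hst : st ψ g (if i = 6 then 7 else if i = 7 then 6 else i) = (st ψ g i)⁻¹ := by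
      by_cases h : i < 6
      · rw [if_neg (by omega), if_neg (by omega)]
        have e : clC ⟨i, h⟩ * clC ⟨i, h⟩ = 1 := Subtype.ext (clP_facts _).2.2
        rw [st, dif_pos h]
        refine (inv_eq_of_mul_eq_one_left (Prod.ext ?_ (clP_facts _).2.2)).symm
        change ψ _ * ψ _ = 1
        rw [← map_mul, e, map_one]
      · by_cases h6 : i = 6
        · subst h6; simp [st, Prod.inv_mk]
        · by_cases h7 : i = 7
          · subst h7; simp [st, Prod.inv_mk]
          · simp [st, h, h6, h7]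
    rw [winv, val_append, val_winv D w, show val ψ g (i :: w) = st ψ g i * val ψ g w from rfl, mul_inv_rev,
      ← hst]
    simp [val]

theorem val_fst_cl (ψ : C0 →* G) (g : G) (w : List ℕ) (h : ∀ i ∈ w, i < 6) :
    (val ψ g w).1 = ψ (clW w) ∧ (clW w).val = valP w := by
  refine ⟨by rw [val_cl ψ g w h], ?_⟩
  rw [← val_snd ψ g w, val_cl ψ g w h]

theorem move_fix {H : Type*} [Group H] {Y z t : H} (h : Y * t = t * Y) (h2 : t * t = 1) :
    Y * (z * t) * Y⁻¹ * t = Y * z * Y⁻¹ := by
  calc Y * (z * t) * Y⁻¹ * t = Y * z * Y⁻¹ * (Y * t * Y⁻¹) * t := by group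
    _ = Y * z * Y⁻¹ := by rw [h, mul_inv_cancel_right, mul_assoc, h2, mul_one]

theorem moveY_sound (D : Base a ψ g) (y t : List ℕ) (ht : ∀ i ∈ t, i < 6)
    (ht2 : mulC (code (valP t)) (code (valP t)) = code 1) (hcom : Commute (val ψ g y) (val ψ g t))
    (c : C0) (m : ℕ) (h : moveY y t (code c.val) = some m) :
    ∃ c' : C0, code c'.val = m ∧ c'.val = valP y * c.val * (valP y)⁻¹ ∧
      (val ψ g y).1 * ψ c * ((val ψ g y).1)⁻¹ = ψ c' := by
  obtain ⟨h1, h2⟩ := val_fst_cl ψ g t ht
  rw [← code_mul] at ht2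
  have htP : valP t * valP t = 1 := code_injective ht2
  have htC : clW t * clW t = 1 := Subtype.ext (by
    change (clW t).val * (clW t).val = 1
    rw [h2, htP])
  unfold moveY at h
  cases hy : run y (code c.val) with
  | some m2 =>
    rw [hy] at h
    obtain rfl := Option.some.inj h
    exact run_sound D y c _ hy
  | none =>
    rw [hy] at h
    simp only [Option.map_eq_some_iff] at h
    obtain ⟨m2, h3, rfl⟩ := h
    rw [show valP t = (clW t).val from h2.symm, ← code_mul] at h3
    rw [show code (valP t) = code (clW t).val from congrArg code h2.symm]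
    obtain ⟨c2, rfl, e2, f2⟩ := run_sound D y (c * clW t) m2 h3
    have hcP : valP y * valP t = valP t * valP y := by
      have := congrArg Prod.snd hcom.eq
      rwa [Prod.snd_mul, Prod.snd_mul, val_snd, val_snd] at this
    have hcG : (val ψ g y).1 * ψ (clW t) = ψ (clW t) * (val ψ g y).1 := by
      have := congrArg Prod.fst hcom.eq
      rwa [Prod.fst_mul, Prod.fst_mul, h1] at this
    refine ⟨c2 * clW t, code_mul _ _, ?_, ?_⟩
    · change c2.val * (clW t).val = _
      rw [e2, show (c * clW t).val = c.val * (clW t).val from rfl, h2]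
      exact move_fix hcP htP
    · rw [map_mul, ← f2, map_mul]
      exact (move_fix hcG (by rw [← map_mul, htC, map_one])).symm

/-- The relation. -/
theorem Chart.sound (D : Base a ψ g) (C : Chart) (hok : C.ok = true)
    (hcy : Commute (val ψ g C.yw) (val ψ g C.tw)) (hch : Commute (val ψ g C.kh) (val ψ g C.kt))
    (hpow : valP (C.yw ++ C.cw) ^ C.n = 1) : val ψ g (C.yw ++ C.cw) ^ C.n = 1 := by
  simp only [Chart.ok, Bool.and_eq_true, List.all_eq_true, decide_eq_true_eq, beq_iff_eq] at hok
  obtain ⟨⟨⟨⟨⟨hlt, ht2⟩, hk2⟩, hs⟩, hsome⟩, hcands⟩ := hok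
  have ht := hlt C.tw (by simp)
  have hkt := hlt C.kt (by simp)
  set W := (val ψ g (C.yw ++ C.cw)).1 with hW
  set K := (val ψ g (C.kc ++ C.kh)).1 with hK
  -- the three actions
  have hmove : ∀ (c : C0) (m : ℕ), C.move (code c.val) = some m →
      ∃ c' : C0, code c'.val = m ∧ W * ψ c * W⁻¹ = ψ c' := by
    intro c m hm
    simp only [Chart.move, Option.bind_eq_some_iff] at hm
    obtain ⟨m1, h1, h2⟩ := hm
    obtain ⟨c1, rfl, -, f1⟩ := run_sound D C.cw c m1 h1
    obtain ⟨c', r1, -, r3⟩ := moveY_sound D C.yw C.tw ht ht2 hcy c1 m h2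
    refine ⟨c', r1, ?_⟩
    rw [← r3, ← f1, hW, val_append, Prod.fst_mul]
    group
  have hkm : ∀ (c : C0) (m : ℕ), C.kmove (code c.val) = some m →
      ∃ c' : C0, code c'.val = m ∧ K * ψ c * K⁻¹ = ψ c' := by
    intro c m hm
    simp only [Chart.kmove, Option.bind_eq_some_iff] at hm
    obtain ⟨m1, h1, h2⟩ := hm
    obtain ⟨c1, rfl, -, f1⟩ := moveY_sound D C.kh C.kt hkt hk2 hch c m1 h1
    obtain ⟨c', r1, -, r3⟩ := run_sound D C.kc c1 m h2
    refine ⟨c', r1, ?_⟩
    rw [← r3, ← f1, hK, val_append, Prod.fst_mul]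
    group
  have hkb : ∀ (c : C0) (m : ℕ), C.kback (code c.val) = some m →
      ∃ c' : C0, code c'.val = m ∧ K⁻¹ * ψ c * K = ψ c' := by
    intro c m hm
    simp only [Chart.kback, Option.bind_eq_some_iff] at hm
    obtain ⟨m1, h1, h2⟩ := hm
    obtain ⟨c1, rfl, -, f1⟩ := run_sound D (winv C.kc) c m1 h1
    have hch' : Commute (val ψ g (winv C.kh)) (val ψ g C.kt) := by
      rw [val_winv D]; exact hch.inv_left
    obtain ⟨c', r1, -, r3⟩ := moveY_sound D (winv C.kh) C.kt hkt hk2 hch' c1 m h2
    refine ⟨c', r1, ?_⟩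
    rw [← r3, ← f1, hK, val_append, val_winv D, val_winv D, Prod.fst_mul, Prod.fst_inv, Prod.fst_inv]
    group
  -- the centralized conjugate
  cases hk : C.kmove alN with
  | none => rw [hk] at hs; simp at hs
  | some sC =>
  rw [hk] at hs
  rw [beq_iff_eq] at hs
  obtain ⟨cs, rfl, fs⟩ := hkm alC sC hk
  obtain ⟨cs', es', fW⟩ := hmove cs _ hs
  obtain rfl : cs' = cs := Subtype.ext (code_injective es')
  rw [D.alpha] at fs
  obtain ⟨c0, hc0⟩ : K⁻¹ * W * K ∈ ψ.range := by
    rw [D.range]
    refine Subgroup.mem_centralizer_singleton_iff.2 ?_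
    have h1 : W * (K * a * K⁻¹) * W⁻¹ = K * a * K⁻¹ := by rw [fs]; exact fW
    calc K⁻¹ * W * K * a = K⁻¹ * (W * (K * a * K⁻¹) * W⁻¹) * W * K := by group
      _ = a * (K⁻¹ * W * K) := by rw [h1]; group
  have hmem : code c0.val ∈ cands ((C.zs.map C.cond).filterMap id) := by
    refine mem_cands (Subgroup.mem_centralizer_singleton_iff.1 c0.2.2) fun zz hzz => ?_
    simp only [List.mem_filterMap, List.mem_map, id_eq] at hzz
    obtain ⟨o, ⟨z, hz, rfl⟩, hzz⟩ := hzz
    obtain ⟨-, hz2⟩ := val_fst_cl ψ g z (hlt z (by simp [hz]))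
    simp only [Chart.cond, Option.bind_eq_some_iff, Option.map_eq_some_iff] at hzz
    obtain ⟨m, h1, m', h2, m'', h3, rfl⟩ := hzz
    rw [← hz2] at h1 ⊢
    obtain ⟨c1, rfl, f1⟩ := hkm (clW z) m h1
    obtain ⟨c2, rfl, f2⟩ := hmove c1 m' h2
    obtain ⟨c3, rfl, f3⟩ := hkb c2 m'' h3
    refine ⟨(clW z).val, c3.val, rfl, rfl, congrArg Subtype.val (D.inj (?_ : ψ (c0 * clW z) = ψ (c3 * c0)))⟩
    rw [map_mul, map_mul, hc0, ← f3, ← f2, ← f1]
    group
  have h1 := hcands _ hmem
  rw [← code_pow] at h1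
  have h2 : c0 ^ C.n = 1 := Subtype.ext (by rw [SubmonoidClass.coe_pow]; exact code_injective h1)
  refine Prod.ext ?_ ?_
  · rw [Prod.pow_fst, Prod.fst_one, ← hW]
    have h3 : (K⁻¹ * W * K) ^ C.n = 1 := by rw [← hc0, ← map_pow, h2, map_one]
    rw [show K⁻¹ * W * K = K⁻¹ * W * K⁻¹⁻¹ by rw [inv_inv], conj_pow] at h3
    exact conj_eq_one_iff.1 h3
  · rw [Prod.pow_snd, Prod.snd_one, val_snd, hpow]

end Cfsg.Agent.AltTwelve.Gen
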