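import Cfsg.Agent.Lib.AltTwelve.Gen.Base

/-!
# Permutations of twelve points as numbers, and candidates for an element of the centralizer

A permutation is recorded by its twelve images, four bits each. An element of the centralizer of `al` is
determined by the images of the even points; candidates with given conjugation conditions are found by
extending partial lists of these images.
-/

set_option autoImplicit false
set_option maxRecDepth 100000

namespace Cfsg.Agent.AltTwelve.Gen

open Cfsg.Agent.AltTwelve.Sp

/-- Short abbreviation. -/
abbrev P12 : Type := Equiv.Perm (Fin 12)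

/-- A list of digits in one number. -/
def packL : List ℕ → ℕ
  | [] => 0
  | a :: l => a + 16 * packL l

/-- A digit. -/
def digC (c k : ℕ) : ℕ := (c >>> (4 * k)) &&& 15

theorem digC_eq (c k : ℕ) : digC c k = c / 16 ^ k % 16 := by
  rw [digC, Nat.shiftRight_eq_div_pow, show (15 : ℕ) = 2 ^ 4 - 1 from rfl, Nat.and_two_pow_sub_one_eq_mod,
    pow_mul]
  rfl

theorem digC_packL : ∀ (l : List ℕ), (∀ a ∈ l, a < 16) → ∀ k (hk : k < l.length), digC (packL l) k = l[k]
  | [], _, k, hk => absurd hk (by simp)
  | a :: l, h, k, hk => by
    have ha := h a List.mem_cons_self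
    cases k with
    | zero =>
      rw [digC_eq, packL, List.getElem_cons_zero]
      omega
    | succ k =>
      have ih := digC_packL l (fun b hb => h b (List.mem_cons_of_mem _ hb)) k (by simpa using hk)
      rw [digC_eq] at ih ⊢
      rw [packL, List.getElem_cons_succ, pow_succ', ← Nat.div_div_eq_div_mul,
        show (a + 16 * packL l) / 16 = packL l by omega, ih]

/-- The number of a permutation. -/
def code (σ : P12) : ℕ := packL (List.ofFn fun i : Fin 12 => (σ i).val)

theorem digC_code (σ : P12) (i : Fin 12) : digC (code σ) i.val = (σ i).val := by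
  rw [code, digC_packL _ (by intro a ha; rw [List.mem_ofFn] at ha; obtain ⟨j, rfl⟩ := ha; omega) _
    (by rw [List.length_ofFn]; exact i.2), List.getElem_ofFn]

theorem code_injective : Function.Injective code := fun σ τ h =>
  Equiv.ext fun i => Fin.ext (by rw [← digC_code, h, digC_code])

/-- The composite. -/
def mulC (c d : ℕ) : ℕ := packL ((List.range 12).map fun k => digC c (digC d k))

theorem code_mul (σ τ : P12) : code (σ * τ) = mulC (code σ) (code τ) := by
  have h : List.ofFn (fun i : Fin 12 => ((σ * τ) i).val) =
      (List.range 12).map fun k => digC (code σ) (digC (code τ) k) := by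
    refine List.ext_getElem (by simp) fun k h1 h2 => ?_
    have hk : k < 12 := by simpa using h1
    rw [List.getElem_ofFn, List.getElem_map, List.getElem_range,
      show digC (code τ) k = (τ ⟨k, hk⟩).val from digC_code τ ⟨k, hk⟩, digC_code]
    rfl
  rw [mulC, ← h, code]

/-- The partner of a point. -/
def mate (a : ℕ) : ℕ := a ^^^ 1

theorem al_val : ∀ i : Fin 12, (al i).val = mate i.val := by decide +kernel

theorem mate_even : ∀ k < 6, mate (2 * k) = 2 * k + 1 := by decide +kernel

/-- The image of a point under the partial map with the given images of the even points. -/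
def imgL (p : List ℕ) (j : ℕ) : ℕ :=
  if j % 2 = 0 then p.getD (j / 2) 0 else mate (p.getD (j / 2) 0)

/-- The partial map agrees with the conditions `c z = z' c`. -/
def okP (cs : List (ℕ × ℕ)) (p : List ℕ) : Bool :=
  cs.all fun zz => (List.range (2 * p.length)).all fun j =>
    !decide (digC zz.1 j < 2 * p.length) || imgL p (digC zz.1 j) == digC zz.2 (imgL p j)

/-- The candidates after `n` steps. -/
def gen (cs : List (ℕ × ℕ)) : ℕ → List (List ℕ)
  | 0 => [[]]
  | n + 1 => ((gen cs n).flatMap fun p =>
      ((List.range 12).filter fun a => !p.contains a && !p.contains (mate a)).map fun a => p ++ [a]).filter (okP cs)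

/-- The number of a full candidate. -/
def codeP (p : List ℕ) : ℕ := packL ((List.range 12).map (imgL p))

/-- The candidates. -/
def cands (cs : List (ℕ × ℕ)) : List ℕ := (gen cs 6).map codeP

theorem mem_cands {cs : List (ℕ × ℕ)} {σ : P12} (hσ : σ * al = al * σ)
    (hcs : ∀ zz ∈ cs, ∃ z z' : P12, code z = zz.1 ∧ code z' = zz.2 ∧ σ * z = z' * σ) :
    code σ ∈ cands cs := by
  set f : ℕ → ℕ := fun k => (σ (Fin.ofNat 12 (2 * k))).val with hf
  have himg : ∀ n ≤ 6, ∀ i : Fin 12, i.val < 2 * n → imgL ((List.range n).map f) i.val = (σ i).val := by
    intro n hn i hi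
    have hget : ((List.range n).map f).getD (i.val / 2) 0 = f (i.val / 2) := by
      rw [List.getD_eq_getElem _ _ (by simp; omega), List.getElem_map, List.getElem_range]
    unfold imgL
    rw [hget]
    split
    · next he =>
      simp only [hf]
      congr 2
      exact Fin.ext (by simp [Fin.ofNat]; omega)
    · next he =>
      have hal : al (Fin.ofNat 12 (2 * (i.val / 2))) = i := Fin.ext (by
        rw [al_val, mate]
        simp only [Fin.ofNat]
        have : i.val % 2 = 1 := by omega
        have h2 : (2 * (i.val / 2)) % 12 = 2 * (i.val / 2) := by omega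
        have e := mate_even (i.val / 2) (by omega)
        rw [mate] at e
        rw [h2, e]
        omega)
      simp only [hf]
      conv_rhs => rw [← hal, ← Equiv.Perm.mul_apply, hσ, Equiv.Perm.mul_apply, al_val]
  have hmem : ∀ n ≤ 6, (List.range n).map f ∈ gen cs n := by
    intro n
    induction n with
    | zero => intro _; simp [gen]
    | succ n ih =>
      intro hn
      rw [gen, List.mem_filter]
      refine ⟨List.mem_flatMap.2 ⟨_, ih (by omega), ?_⟩, ?_⟩
      · refine List.mem_map.2 ⟨f n, List.mem_filter.2 ⟨List.mem_range.2 (σ _).2, ?_⟩, ?_⟩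
        · simp only [Bool.and_eq_true, Bool.not_eq_true', List.contains_iff_mem,
            ← Bool.not_eq_true, List.mem_map, List.mem_range, not_exists, not_and]
          refine ⟨fun k hk e => ?_, fun k hk e => ?_⟩
          · have := σ.injective (Fin.ext e)
            simp [Fin.ext_iff, Fin.ofNat] at this
            omega
          · have e' : σ (Fin.ofNat 12 (2 * k)) = al (σ (Fin.ofNat 12 (2 * n))) := Fin.ext (by
              rw [al_val]; exact e)
            rw [← Equiv.Perm.mul_apply, ← hσ, Equiv.Perm.mul_apply] at e'
            have e'' := congrArg Fin.val (σ.injective e')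
            rw [al_val, mate] at e''
            simp only [Fin.ofNat] at e''
            have e3 : (2 * n % 12) ^^^ 1 = 2 * n % 12 + 1 := by
              have : n < 6 := by omega
              interval_cases n <;> decide
            omega
        · rw [List.range_succ, List.map_append, List.map_singleton]
      · simp only [okP, List.all_eq_true, List.mem_range, Bool.or_eq_true, Bool.not_eq_true',
          decide_eq_false_iff_not, beq_iff_eq, List.length_map, List.length_range]
        intro zz hzz j hj
        by_cases hlt : digC zz.1 j < 2 * (n + 1)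
        · refine Or.inr ?_
          obtain ⟨z, z', hz, hz', he⟩ := hcs zz hzz
          have hj12 : j < 12 := by omega
          rw [← hz] at hlt ⊢
          rw [← hz', show digC (code z) j = (z ⟨j, hj12⟩).val from digC_code z ⟨j, hj12⟩] at *
          rw [himg (n + 1) hn _ hlt, himg (n + 1) hn ⟨j, hj12⟩ hj, digC_code, ← Equiv.Perm.mul_apply, he]
          rfl
        · exact Or.inl hlt
  refine List.mem_map.2 ⟨_, hmem 6 le_rfl, ?_⟩
  rw [codeP, code]
  congr 1
  refine List.ext_getElem (by simp) fun k h1 h2 => ?_
  have hk : k < 12 := by simpa using h1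
  rw [List.getElem_ofFn, List.getElem_map, List.getElem_range, himg 6 le_rfl ⟨k, hk⟩ (by show k < 12; omega)]

end Cfsg.Agent.AltTwelve.Gen
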