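import Cfsg.Agent.Lib.AltTwelve.Gen.HomData
import Cfsg.Agent.Lib.AltTwelve.Alt.Branch
import Cfsg.Agent.Lib.ShortPres.Carmichael

/-!
# The alternating group of degree twelve inside

The conjugates of the element of order three through two fixed points satisfy the relations of the
three-cycles, and the homomorphism they give agrees with the given one on the centralizer.
-/

set_option autoImplicit false
set_option maxRecDepth 100000
set_option linter.unusedSectionVars false

namespace Cfsg.Agent.AltTwelve.Gen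

open Equiv Cfsg.Agent.AltTwelve.Sp Cfsg.Agent.AltTwelve.Alt

universe u

/-- The words generate the centralizer. -/
theorem exists_word (c : C0) : ∃ w, clOK w = true ∧ c = clW w := by
  suffices key : ∀ n, ∀ c : C0, (∀ j : Fin 12, j.val < 2 * (5 - n) → c.val j = j) →
      ∃ w, clOK w = true ∧ c = clW w from key 5 c fun j hj => absurd hj (by omega)
  have hmul : ∀ v w : List ℕ, clW (v ++ w) = clW v * clW w := by
    intro v w
    induction v with
    | nil => simp [clW]
    | cons i v ih => rw [List.cons_append, clW, ih, clW, mul_assoc]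
  intro n
  induction n with
  | zero =>
    intro c h
    refine ⟨[], rfl, Subtype.ext (Equiv.ext fun j => ?_)⟩
    have hal : Commute c.val al := (alC_central c).map C0.subtype
    have h10 : ∀ k : Fin 12, k.val < 10 → c.val k = k := fun k hk => h k (by omega)
    by_cases e : c.val 10 = 10
    · rcases Nat.lt_or_ge j.val 10 with hj | hj
      · exact h10 j hj
      · obtain rfl | rfl : j = 10 ∨ j = 11 := by omega
        · exact e
        · change c.val 11 = 11
          rw [show (11 : Fin 12) = al 10 from (by decide +kernel), ← Equiv.Perm.mul_apply, hal.eq,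
            Equiv.Perm.mul_apply, e]
    · exfalso
      have e11 : c.val 10 = 11 := by
        rcases Nat.lt_or_ge (c.val 10).val 10 with hj | hj
        · exact absurd (c.val.injective (h10 _ hj)) (fun q => by rw [q] at hj; omega)
        · obtain q | q : c.val 10 = 10 ∨ c.val 10 = 11 := by omega
          exacts [absurd q e, q]
      have e10 : c.val 11 = 10 := by
        rw [show (11 : Fin 12) = al 10 from (by decide +kernel), ← Equiv.Perm.mul_apply, hal.eq,
          Equiv.Perm.mul_apply, e11]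
        decide +kernel
      have hc : c.val = Equiv.swap (10 : Fin 12) 11 := Equiv.ext fun k => by
        rcases Nat.lt_or_ge k.val 10 with hj | hj
        · rw [h10 k hj, Equiv.swap_apply_of_ne_of_ne]
          · intro q; rw [q] at hj; omega
          · intro q; rw [q] at hj; omega
        · obtain rfl | rfl : k = 10 ∨ k = 11 := by omega
          · rw [e11, Equiv.swap_apply_left]
          · rw [e10, Equiv.swap_apply_right]
      have := Equiv.Perm.mem_alternatingGroup.1 c.2.1
      rw [hc, odd_swaps.1] at this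
      exact absurd this (by decide)
  | succ n ih =>
    intro c h
    by_cases hn : 5 ≤ n
    · exact ih c fun j hj => h j (by omega)
    set k : Fin 5 := ⟨4 - n, by omega⟩ with hk
    have hkv : k.val = 5 - (n + 1) := by rw [hk]; simp only; omega
    set p : Fin 12 := Fin.ofNat 12 (2 * k.val) with hp
    have hpv : p.val = 2 * k.val := by rw [hp]; simp [Fin.ofNat]; omega
    have hle : 2 * k.val ≤ (c.val p).val := by
      by_contra hlt
      have e := c.val.injective (h (c.val p) (by omega))
      rw [e, hpv] at hlt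
      omega
    obtain ⟨w1, w2, w3⟩ := chain_ok k (c.val p) hle
    set w := (chainTab.getD k.val []).getD (c.val p).val [] with hw
    have hwv : (clW w).val = valP w := (val_fst_cl (MonoidHom.id C0) 1 w (by simpa [clOK] using w1)).2
    have e1 : (clW w).val p = c.val p := Fin.ext (by rw [hwv]; exact w2)
    have hfix : ∀ j : Fin 12, j.val < 2 * (5 - n) → ((clW w)⁻¹ * c).val j = j := by
      intro j hj
      change (clW w).val⁻¹ (c.val j) = j
      rw [Equiv.Perm.inv_def, Equiv.symm_apply_eq]
      rcases Nat.lt_or_ge j.val (2 * k.val) with hj' | hj'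
      · rw [h j (by omega), hwv, w3 j hj']
      · rcases (show j.val = 2 * k.val ∨ j.val = 2 * k.val + 1 by omega) with hje | hje
        · rw [show j = p from Fin.ext (hje.trans hpv.symm), e1]
        · have hjp : j = al p := Fin.ext (by
            rw [al_val, mate, hpv, hje]
            exact (mate_even k.val (by omega)).symm)
          have c1 : Commute c.val al := (alC_central c).map C0.subtype
          have c2 : Commute (clW w).val al := (alC_central (clW w)).map C0.subtype
          have q1 := DFunLike.congr_fun c1.eq p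
          have q2 := DFunLike.congr_fun c2.eq p
          rw [Equiv.Perm.mul_apply, Equiv.Perm.mul_apply] at q1 q2
          rw [hjp, q1, q2, e1]
    obtain ⟨v, v1, v2'⟩ := ih _ hfix
    refine ⟨w ++ v, by simp [clOK] at w1 v1 ⊢; exact ⟨w1, v1⟩, ?_⟩
    rw [hmul, ← v2', mul_inv_cancel_left]

variable {G : Type u} [Group G] {a g : G} {ψ : C0 →* G}

/-- Conjugates by elements with the same effect on the three-cycle are equal. -/
theorem T_conj (D : Base a ψ g) {v w : List ℕ} (hv : clOK v = true) (hw : clOK w = true)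
    (h : code (valP (tw3 v)) = code (valP (tw3 w))) : val ψ g (tw3 v) = val ψ g (tw3 w) := by
  simp only [clOK, List.all_eq_true, decide_eq_true_eq] at hv hw
  have hP := code_injective h
  rw [← val_snd ψ g, ← val_snd ψ g, tw3, tw3, val_append, val_append, val_append, val_append, val_winv D,
    val_winv D] at hP
  simp only [Prod.snd_mul, Prod.snd_inv, val_snd] at hP
  obtain ⟨v1, v2'⟩ := val_fst_cl ψ g v hv
  obtain ⟨w1, w2'⟩ := val_fst_cl ψ g w hw
  set d : C0 := (clW w)⁻¹ * clW v with hd
  have hg6 : valP [6] = g12 := by simp [valP, stP]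
  rw [hg6] at hP
  have hdg : d.val * g12 * d.val⁻¹ = g12 := by
    change (clW w).val⁻¹ * (clW v).val * g12 * ((clW w).val⁻¹ * (clW v).val)⁻¹ = g12
    rw [v2', w2', show (valP w)⁻¹ * valP v * g12 * ((valP w)⁻¹ * valP v)⁻¹ =
      (valP w)⁻¹ * (valP v * g12 * (valP v)⁻¹) * valP w by group, hP]
    group
  have hdal : Commute d.val al := (alC_central d).map C0.subtype
  have hdg' : Commute d.val g12 := mul_inv_eq_iff_eq_mul.1 hdg
  have hact := D.act d (((hdg'.mul_right hdal).mul_right hdg'.inv_right).eq) d (by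
    rw [← hdg'.eq, mul_inv_cancel_right])
  have hc : ψ (clW v) * g * (ψ (clW v))⁻¹ = ψ (clW w) * g * (ψ (clW w))⁻¹ := by
    rw [hd, map_mul, map_inv] at hact
    calc ψ (clW v) * g * (ψ (clW v))⁻¹
        = ψ (clW w) * ((ψ (clW w))⁻¹ * ψ (clW v)) * g * (ψ (clW v))⁻¹ := by group
      _ = ψ (clW w) * (g * ((ψ (clW w))⁻¹ * ψ (clW v)) * g⁻¹) * g * (ψ (clW v))⁻¹ := by rw [hact]
      _ = _ := by group
  refine Prod.ext ?_ ?_
  · simp only [tw3, val_append, val_winv D, Prod.fst_mul, Prod.fst_inv, v1, w1]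
    simpa [val, st] using hc
  · rw [val_snd, val_snd, code_injective h]

/-- The value of a three-cycle. -/
def Xv (ψ : C0 →* G) (g : G) (i : ℕ) : G × P12 := val ψ g (tw3 (xW i))

theorem Xv_eq (D : Base a ψ g) (i : Fin 12) (hi : 2 ≤ i.val) {v : List ℕ} (hv : clOK v = true)
    (h : code (valP (tw3 v)) = code (cy i)) : val ψ g (tw3 v) = Xv ψ g i.val :=
  T_conj D hv (xW_ok i hi).1 (h.trans (xW_ok i hi).2.symm)

theorem Xv_conj (D : Base a ψ g) (i j : Fin 12) (hi : 2 ≤ i.val) (hj : 2 ≤ j.val) {k : List ℕ}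
    (hk : clOK k = true) (h : code (valP k * cy i * (valP k)⁻¹) = code (cy j)) :
    val ψ g k * Xv ψ g i.val * (val ψ g k)⁻¹ = Xv ψ g j.val := by
  have hkv : clOK (k ++ xW i.val) = true := by
    have := (xW_ok i hi).1
    simp only [clOK, List.all_eq_true, decide_eq_true_eq, List.mem_append] at this hk ⊢
    rintro x (hx | hx)
    exacts [hk x hx, this x hx]
  have hval : val ψ g (tw3 (k ++ xW i.val)) = val ψ g k * Xv ψ g i.val * (val ψ g k)⁻¹ := by
    simp only [Xv, tw3, val_append, val_winv D]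
    group
  rw [← hval]
  refine Xv_eq D j hj hkv ?_
  have := congrArg Prod.snd hval
  simp only [Prod.snd_mul, Prod.snd_inv, val_snd, Xv] at this
  rw [this, code_injective (xW_ok i hi).2]
  exact h

/-- The two three-cycles of the first four. -/
theorem four_rel (D : Base a ψ g) :
    ∃ c : C0, Xv ψ g 2 * Xv ψ g 3 = (ψ c, c.val) ∧ (Xv ψ g 2 * Xv ψ g 3) ^ 2 = 1 := by
  obtain ⟨h2, h3, -, hv2, -, hv3, -⟩ := v_ok
  have x2 : val ψ g (tw3 v2) = Xv ψ g 2 := Xv_eq D 2 (by decide) hv2 h2
  have x3 : val ψ g (tw3 v3) = Xv ψ g 3 := Xv_eq D 3 (by decide) hv3 h3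
  rw [← x2, ← x3]
  obtain ⟨z, hz, z', hz', e1, e2⟩ := four_facts
  have hsm : ∀ w ∈ ([[], [0], [5], [0, 5]] : List (List ℕ)), ∀ i ∈ w, i < 6 := by decide
  have hf := bases_one D ([6] ++ fW ++ [6] ++ fW) (by simp [bases])
  have hr := rel_run D [7] ([0, 5] ++ [0]) z (by decide) (hsm z hz) e1
  rw [val_append, val_append, val_append] at hf
  have f2 := cl_sq ψ g (w := fW) (by decide) (by decide +kernel)
  have hfg : val ψ g fW * val ψ g [6] * val ψ g fW = val ψ g [7] := by
    rw [inv_seven D]
    refine eq_inv_of_mul_eq_one_right ?_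
    rw [← hf]; group
  have s0 := cl_sq ψ g (w := [0]) (by decide) (by decide +kernel)
  have s5 := cl_sq ψ g (w := [0, 5]) (by decide) (by decide +kernel)
  have i0 := inv_eq_of_mul_eq_one_left s0
  have i5 := inv_eq_of_mul_eq_one_left s5
  have i2 := inv_eq_of_mul_eq_one_left f2
  have hval : val ψ g (tw3 v2) * val ψ g (tw3 v3) = val ψ g z' := by
    have e6 : val ψ g [7] * val ψ g ([0, 5] ++ [0]) * val ψ g [6] = val ψ g z := by
      rw [← hr, inv_seven D, inv_inv]
    have hz'' : val ψ g (([0, 5] ++ fW ++ fW) ++ z ++ [0]) = val ψ g z' :=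
      seg_eq ψ g (by
        intro i hi
        simp only [List.mem_append] at hi
        rcases hi with ((((hi | hi) | hi)) | hi) | hi
        · revert i; decide
        · revert i; decide
        · revert i; decide
        · exact hsm z hz i hi
        · revert i; decide) (hsm z' hz') e2
    rw [← hz'']
    simp only [tw3, v2, v3, val_append, val_winv D, mul_inv_rev, i0, i5, i2] at e6 ⊢
    rw [← e6]
    simp only [mul_assoc]
    rw [← mul_assoc (val ψ g fW) (val ψ g [6]), ← mul_assoc (val ψ g fW * val ψ g [6]) (val ψ g fW), hfg]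
    rw [← mul_assoc (val ψ g fW) (val ψ g fW), f2, one_mul]
  obtain ⟨z1, z2⟩ := val_fst_cl ψ g z' (hsm z' hz')
  refine ⟨clW z', ?_, ?_⟩
  · rw [hval, val_cl ψ g z' (hsm z' hz')]
  · rw [hval, sq]
    exact cl_sq ψ g (hsm z' hz') (four_prod z' hz')

/-- The braid relation for the basic pair. -/
theorem four_two (D : Base a ψ g) : (Xv ψ g 4 * Xv ψ g 2) ^ 2 = 1 := by
  obtain ⟨h2, -, h4, hv2, hv4, -, hk⟩ := v_ok
  have e := braid D
  rw [key_sound ψ g hk, val_append, val_append, val_append] at e
  have x2 : val ψ g (tw3 v2) = Xv ψ g 2 := Xv_eq D 2 (by decide) hv2 h2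
  have x4 : val ψ g (tw3 v4) = Xv ψ g 4 := Xv_eq D 4 (by decide) hv4 h4
  rw [← x2, ← x4, sq, ← mul_assoc]
  exact e

theorem sq_swap {H : Type*} [Group H] {x y : H} (h : (x * y) ^ 2 = 1) : (y * x) ^ 2 = 1 := by
  rw [show y * x = y * (x * y) * y⁻¹ by group, conj_pow, h, mul_one, mul_inv_cancel]

/-- The points other than `0` and `1`. -/
abbrev R12 : Type := ShortPres.Alt.Rest (0 : Fin 12) 1

theorem two_le (i : R12) : 2 ≤ (i : Fin 12).val := by
  have h0 := i.2.1
  have h1 := i.2.2
  simp only [ne_eq, Fin.ext_iff, Fin.val_zero, Fin.val_one] at h0 h1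
  omega

/-- The three-cycles satisfy the relations. -/
theorem rels (D : Base a ψ g) : ShortPres.Alt.Rels fun i : R12 => (Xv ψ g (i : Fin 12).val).1 := by
  refine ⟨fun i => ?_, fun i j hij => ?_⟩
  · have h : Xv ψ g (i : Fin 12).val ^ 3 = 1 := by
      rw [Xv, tw3, val_append, val_append, val_winv D, conj_pow, (prim D).1, mul_one, mul_inv_cancel]
    simpa using congrArg Prod.fst h
  · suffices h : (Xv ψ g (i : Fin 12).val * Xv ψ g (j : Fin 12).val) ^ 2 = 1 by
      simpa using congrArg Prod.fst h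
    obtain ⟨e, -, he⟩ := List.any_eq_true.1 (pair_ok i j (two_le i) (two_le j) fun h => hij (Subtype.ext h))
    obtain ⟨ei, ej, k, p, q⟩ := e
    simp only [Bool.and_eq_true, beq_iff_eq, List.contains_iff_mem] at he
    obtain ⟨⟨⟨⟨⟨-, -⟩, hk⟩, hpq⟩, hp⟩, hq⟩ := he
    obtain ⟨_, -, h23⟩ := four_rel D
    have h24 := four_two D
    have hbase : (Xv ψ g p * Xv ψ g q) ^ 2 = 1 ∧ 2 ≤ p ∧ 2 ≤ q ∧ p < 12 ∧ q < 12 := by
      simp only [List.mem_cons, List.not_mem_nil, or_false, Prod.mk.injEq] at hpq
      rcases hpq with ⟨rfl, rfl⟩ | ⟨rfl, rfl⟩ | ⟨rfl, rfl⟩ | ⟨rfl, rfl⟩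
      exacts [⟨h23, by norm_num⟩, ⟨sq_swap h24, by norm_num⟩, ⟨sq_swap h23, by norm_num⟩,
        ⟨h24, by norm_num⟩]
    obtain ⟨hb, p2, q2, p12, q12⟩ := hbase
    have ep := Xv_conj D i (Fin.ofNat 12 p) (two_le i) (by simp [Fin.ofNat, Nat.mod_eq_of_lt p12, p2]) hk hp
    have eq' := Xv_conj D j (Fin.ofNat 12 q) (two_le j) (by simp [Fin.ofNat, Nat.mod_eq_of_lt q12, q2]) hk hq
    simp only [Fin.ofNat, Nat.mod_eq_of_lt p12, Nat.mod_eq_of_lt q12] at ep eq'
    rw [← ep, ← eq', show val ψ g k * Xv ψ g (i : Fin 12).val * (val ψ g k)⁻¹ *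
      (val ψ g k * Xv ψ g (j : Fin 12).val * (val ψ g k)⁻¹) =
      val ψ g k * (Xv ψ g (i : Fin 12).val * Xv ψ g (j : Fin 12).val) * (val ψ g k)⁻¹ by group, conj_pow] at hb
    exact conj_eq_one_iff.1 hb

/-- The homomorphism. -/
theorem exists_hom [Finite G] (D : Base a ψ g) : ∃ f : A12 →* G, Alt.Hyp f := by
  have huv : (0 : Fin 12) ≠ 1 := by decide
  have hne : Nonempty R12 := ⟨⟨2, by decide⟩⟩
  obtain ⟨f, hf⟩ := ShortPres.Alt.exists_hom huv hne (rels D)
  let ι : C0 →* A12 :=
    { toFun := fun c => ⟨c.val, c.2.1⟩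
      map_one' := rfl
      map_mul' := fun _ _ => rfl }
  have hval : ∀ (i : R12), (ShortPres.Alt.cyc huv i : A12).val = cy i := fun i => rfl
  have hfX : ∀ (i : Fin 12) (hi : 2 ≤ i.val) (σ : A12), σ.val = cy i → f σ = (Xv ψ g i.val).1 := by
    intro i hi σ hσ
    have h : (i : Fin 12) ≠ 0 ∧ (i : Fin 12) ≠ 1 := by
      constructor <;> (intro e; rw [e] at hi; simp at hi)
    rw [show σ = ShortPres.Alt.cyc huv ⟨i, h⟩ from Subtype.ext hσ, hf]
  have hcy : ∀ i : Fin 12, 2 ≤ i.val → cy i ∈ alternatingGroup (Fin 12) := fun i hi => by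
    refine Equiv.Perm.mem_alternatingGroup.2 ?_
    revert i; decide +kernel
  let X : Fin 12 → A12 := fun i => if h : 2 ≤ i.val then ⟨cy i, hcy i h⟩ else 1
  have hX : ∀ i : Fin 12, 2 ≤ i.val → f (X i) = (Xv ψ g i.val).1 ∧ (X i).val = cy i := fun i hi => by
    simp only [X, dif_pos hi]
    exact ⟨hfX i hi _ rfl, trivial⟩
  -- agreement on the centralizer
  let S : Subgroup C0 :=
    { carrier := {c | f (ι c) = ψ c}
      one_mem' := by simp
      mul_mem' := fun {x y} (hx : f (ι x) = ψ x) (hy : f (ι y) = ψ y) =>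
        show f (ι (x * y)) = ψ (x * y) by rw [map_mul, map_mul, hx, hy, map_mul]
      inv_mem' := fun {x} (hx : f (ι x) = ψ x) =>
        show f (ι x⁻¹) = ψ x⁻¹ by rw [map_inv, map_inv, hx, map_inv] }
  obtain ⟨c23, hc23, hsq23⟩ := four_rel D
  have hfour : ∀ b : Bool, ∃ c : C0, c.val = zP b ∧
      (ψ c, c.val) = (if b then Xv ψ g 3 * Xv ψ g 2 else Xv ψ g 2 * Xv ψ g 3) := by
    have e2 : ∀ i : Fin 12, 2 ≤ i.val → (Xv ψ g i.val).2 = cy i := fun i hi => by
      rw [Xv, val_snd]; exact code_injective (xW_ok i hi).2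
    intro b
    cases b with
    | false =>
      refine ⟨c23, ?_, hc23.symm⟩
      have := congrArg Prod.snd hc23
      rw [Prod.snd_mul] at this
      exact this.symm.trans (congrArg₂ (· * ·) (e2 2 (by decide)) (e2 3 (by decide)))
    | true =>
      -- the other product is its conjugate and inverse
      have h32 : Xv ψ g 3 * Xv ψ g 2 = (Xv ψ g 2)⁻¹ * (ψ c23, c23.val) * Xv ψ g 2 := by
        rw [← hc23]; group
      obtain ⟨h2, -, -, hv2, -, -, -⟩ := v_ok
      have hmem : ∃ c : C0, Xv ψ g 3 * Xv ψ g 2 = (ψ c, c.val) := by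
        obtain ⟨w, hw, hwc⟩ := exists_word c23
        have hz : ∃ m, run (winv (tw3 v2)) (code c23.val) = some m := by
          have hc : c23.val = cy 2 * cy 3 := by
            have := congrArg Prod.snd hc23
            rw [Prod.snd_mul] at this
            exact this.symm.trans (congrArg₂ (· * ·) (e2 2 (by decide)) (e2 3 (by decide)))
          rw [hc]
          exact Option.isSome_iff_exists.1 z32_ok
        obtain ⟨m, hm⟩ := hz
        obtain ⟨c', -, e', f'⟩ := run_sound D _ c23 m hm
        refine ⟨c', ?_⟩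
        rw [h32, ← show val ψ g (tw3 v2) = Xv ψ g 2 from Xv_eq D 2 (by decide) hv2 h2]
        refine Prod.ext ?_ ?_
        · rw [← f', val_winv D, Prod.fst_mul, Prod.fst_mul, Prod.fst_inv, inv_inv]
        · rw [e', Prod.snd_mul, Prod.snd_mul, Prod.snd_inv, val_snd,
            show valP (winv (tw3 v2)) = (valP (tw3 v2))⁻¹ by
              rw [← val_snd ψ g, val_winv D, Prod.snd_inv, val_snd], inv_inv]
      obtain ⟨c, hc⟩ := hmem
      refine ⟨c, ?_, hc.symm⟩
      have := congrArg Prod.snd hc
      rw [Prod.snd_mul] at this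
      exact this.symm.trans (congrArg₂ (· * ·) (e2 3 (by decide)) (e2 2 (by decide)))
  have hgen : ∀ l : Fin 6, clC l ∈ S := by
    intro l
    obtain ⟨hall, hprod⟩ := gen_ok l
    have hcj := List.all_eq_true.1 (conj_cy_ok l)
    have hlist : ∀ ps : List (List ℕ × Bool), (∀ p ∈ ps, p ∈ genTab.getD l.val []) →
        ∃ c ∈ S, c.val = (ps.map piece).prod := by
      intro ps
      induction ps with
      | nil => exact fun _ => ⟨1, one_mem _, rfl⟩
      | cons p ps ih =>
        intro hps
        obtain ⟨c', hc'S, hc'⟩ := ih fun q hq => hps q (List.mem_cons_of_mem _ hq)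
        have hp := hps p List.mem_cons_self
        have hpk := List.all_eq_true.1 hall p hp
        simp only [Bool.and_eq_true] at hpk
        have hkcl : ∀ i ∈ p.1, i < 6 := by
          simpa [clOK] using hpk.1.1.1
        obtain ⟨k1, k2⟩ := val_fst_cl ψ g p.1 hkcl
        obtain ⟨z, hz, hzv⟩ := hfour p.2
        refine ⟨clW p.1 * z * (clW p.1)⁻¹ * c', mul_mem ?_ hc'S, ?_⟩
        swap
        · rw [List.map_cons, List.prod_cons, ← hc', piece, ← k2, ← hz]; rfl
        have hj : ∀ i : Fin 12, i.val = 2 ∨ i.val = 3 → ∃ j : Fin 12, 2 ≤ j.val ∧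
            valP p.1 * cy i * (valP p.1)⁻¹ = cy j ∧
              val ψ g p.1 * Xv ψ g i.val * (val ψ g p.1)⁻¹ = Xv ψ g j.val := by
          intro i hi
          have h := List.all_eq_true.1 (hcj p hp) i.val (List.mem_range.2 i.2)
          simp only [Bool.or_eq_true, Bool.not_eq_true', decide_eq_false_iff_not, beq_iff_eq,
            List.any_eq_true, List.mem_range, Bool.and_eq_true, decide_eq_true_eq] at h
          rcases h with h | ⟨j, hj12, hj2, e⟩
          · omega
          refine ⟨⟨j, hj12⟩, hj2, ?_, ?_⟩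
          · have := code_injective e
            simpa [Fin.ofNat, Nat.mod_eq_of_lt hj12, Nat.mod_eq_of_lt i.2] using this
          · refine Xv_conj D i ⟨j, hj12⟩ (by omega) hj2 hpk.1.1.1 ?_
            simpa [Fin.ofNat, Nat.mod_eq_of_lt hj12, Nat.mod_eq_of_lt i.2] using e
        obtain ⟨j2, hj2, p2, g2⟩ := hj 2 (Or.inl rfl)
        obtain ⟨j3, hj3, p3, g3⟩ := hj 3 (Or.inr rfl)
        change f (ι (clW p.1 * z * (clW p.1)⁻¹)) = ψ (clW p.1 * z * (clW p.1)⁻¹)
        rw [map_mul ψ, map_mul ψ, map_inv ψ, ← k1, show ψ z = (ψ z, z.val).1 from rfl, hzv]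
        cases hb : p.2 with
        | false =>
          rw [hb] at hz
          simp only [Bool.false_eq_true, if_false]
          rw [show ι (clW p.1 * z * (clW p.1)⁻¹) = X j2 * X j3 from Subtype.ext (by
            change (clW p.1).val * z.val * (clW p.1).val⁻¹ = (X j2).val * (X j3).val
            rw [(hX j2 hj2).2, (hX j3 hj3).2, hz, zP, k2, ← p2, ← p3]; group), map_mul, (hX j2 hj2).1,
            (hX j3 hj3).1, ← g2, ← g3]
          simp only [Prod.fst_mul, Prod.fst_inv, Fin.val_two]
          group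
          rfl
        | true =>
          rw [hb] at hz
          simp only [if_true]
          rw [show ι (clW p.1 * z * (clW p.1)⁻¹) = X j3 * X j2 from Subtype.ext (by
            change (clW p.1).val * z.val * (clW p.1).val⁻¹ = (X j3).val * (X j2).val
            rw [(hX j2 hj2).2, (hX j3 hj3).2, hz, zP, k2, ← p2, ← p3]; group), map_mul, (hX j2 hj2).1,
            (hX j3 hj3).1, ← g2, ← g3]
          simp only [Prod.fst_mul, Prod.fst_inv, Fin.val_two]
          group
          rfl
    obtain ⟨c, hcS, hc⟩ := hlist _ fun p hp => hp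
    rwa [show clC l = c from Subtype.ext ((code_injective hprod).symm.trans hc.symm)]
  have hagree : ∀ c : C0, f (ι c) = ψ c := by
    intro c
    obtain ⟨w, hw, rfl⟩ := exists_word c
    change clW w ∈ S
    induction w with
    | nil => exact one_mem _
    | cons i w ih =>
      simp only [clOK, List.all_cons, Bool.and_eq_true, decide_eq_true_eq] at hw
      rw [clW, dif_pos hw.1]
      exact mul_mem (hgen _) (ih hw.2)
  have hia : f alA = a := by
    rw [show alA = ι alC from Subtype.ext rfl, hagree, D.alpha]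
  have hinj : Function.Injective f := by
    rw [← MonoidHom.ker_eq_bot_iff]
    have : IsSimpleGroup A12 := alternatingGroup.isSimpleGroup (by simp)
    refine (IsSimpleGroup.eq_bot_or_eq_top_of_normal _ inferInstance).resolve_right fun h => ?_
    have h0 : f alA = 1 := MonoidHom.mem_ker.1 (h ▸ Subgroup.mem_top alA)
    rw [hia, ← D.alpha, ← map_one ψ] at h0
    exact al_nontriv (congrArg Subtype.val (D.inj h0))
  refine ⟨f, hinj, fun x hx => ?_, fun σ τ hσ hτ hc => ?_⟩
  · rw [hia] at hx
    obtain ⟨c, hc⟩ : x ∈ ψ.range := D.range ▸ Subgroup.mem_centralizer_singleton_iff.2 hx.eq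
    exact ⟨ι c, by rw [hagree, hc]⟩
  · have hrep : ∀ ρ : A12, ρ * ρ = 1 → ρ ≠ 1 →
        ∃ c : C0, c * c = 1 ∧ IsConj (f ρ) (ψ c) ∧ c.val.support.card = sc ρ := by
      intro ρ hρ hρ1
      obtain ⟨sa, s4, s2, -⟩ := sc_vals
      obtain ⟨qa, q4, q2, -⟩ := sq_vals
      have mk : ∀ r : A12, r * r = 1 → sc r = sc ρ → r.val * al = al * r.val →
          ∃ c : C0, c * c = 1 ∧ IsConj (f ρ) (ψ c) ∧ c.val.support.card = sc ρ := by
        intro r hr hsc hcom
        let c : C0 := ⟨r.val, mem_C0 (Equiv.Perm.mem_alternatingGroup.1 r.2) hcom⟩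
        refine ⟨c, Subtype.ext (congrArg Subtype.val hr :), ?_, hsc⟩
        rw [← hagree c, show ι c = r from Subtype.ext rfl]
        obtain ⟨k, hk⟩ := exists_conj hρ hr hsc.symm
        exact isConj_iff.2 ⟨f k, by rw [← map_inv, ← map_mul, ← map_mul, hk]⟩
      rcases sc_cases hρ hρ1 with h | h | h
      · exact mk u2A q2 (s2.trans h.symm) (by decide +kernel)
      · exact mk u4A q4 (s4.trans h.symm) (by decide +kernel)
      · exact mk alA qa (sa.trans h.symm) rfl
    by_cases hσ1 : σ = 1
    · subst hσ1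
      rw [map_one] at hc
      rw [show τ = 1 from hinj ((isConj_one_right.1 hc).trans (map_one f).symm)]
    by_cases hτ1 : τ = 1
    · subst hτ1
      rw [map_one] at hc
      exact absurd (hinj ((isConj_one_left.1 hc).trans (map_one f).symm)) hσ1
    obtain ⟨c, hc1, hc2, hc3⟩ := hrep σ hσ hσ1
    obtain ⟨d, hd1, hd2, hd3⟩ := hrep τ hτ hτ1
    rw [← hc3, ← hd3]
    exact D.ne c d hc1 hd1 ((hc2.symm.trans hc).trans hd2)

end Cfsg.Agent.AltTwelve.Gen
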