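import Cfsg.Agent.Lib.AltTwelve.Gen.Tables
import Cfsg.Agent.Lib.AltTwelve.Gen.Braid

/-!
# Facts about the tables
-/

set_option autoImplicit false
set_option maxRecDepth 100000

namespace Cfsg.Agent.AltTwelve.Gen

open Equiv Cfsg.Agent.AltTwelve.Sp

/-- A conjugate of the element of order three, as a word. -/
def tw3 (v : List ℕ) : List ℕ := v ++ [6] ++ winv v

/-- The three-cycle `0 1 i` as a permutation. -/
def cy (i : Fin 12) : P12 := swap i 0 * swap 0 1

/-- The word for the three-cycle `0 1 i`. -/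
def xW (i : ℕ) : List ℕ := xTab.getD (i - 2) []

/-- The basic words. -/
def v2 : List ℕ := [0, 5] ++ fW

/-- The basic words. -/
def v3 : List ℕ := [0]

/-- The basic words. -/
def v4 : List ℕ := [1, 0, 5] ++ fW

/-- Whether a word consists of small letters. -/
def clOK (w : List ℕ) : Bool := w.all fun i => decide (i < 6)

theorem xW_ok : ∀ i : Fin 12, 2 ≤ i.val →
    clOK (xW i.val) = true ∧ code (valP (tw3 (xW i.val))) = code (cy i) := by decide +kernel

theorem v_ok : code (valP (tw3 v2)) = code (cy 2) ∧ code (valP (tw3 v3)) = code (cy 3) ∧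
    code (valP (tw3 v4)) = code (cy 4) ∧ clOK v2 = true ∧ clOK v4 = true ∧ clOK v3 = true ∧
    key (expand target) = key (tw3 v4 ++ tw3 v2 ++ tw3 v4 ++ tw3 v2) := by decide +kernel

theorem pair_ok : ∀ i j : Fin 12, 2 ≤ i.val → 2 ≤ j.val → i ≠ j → kTab.any (fun e =>
    e.1 == i.val && e.2.1 == j.val && clOK e.2.2.1 &&
      [(2, 3), (2, 4), (3, 2), (4, 2)].contains (e.2.2.2.1, e.2.2.2.2) &&
      code (valP e.2.2.1 * cy i * (valP e.2.2.1)⁻¹) == code (cy (Fin.ofNat 12 e.2.2.2.1)) &&
      code (valP e.2.2.1 * cy j * (valP e.2.2.1)⁻¹) == code (cy (Fin.ofNat 12 e.2.2.2.2))) = true := by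
  decide +kernel

/-- The products of two three-cycles of the first four. -/
def zP : Bool → P12
  | false => cy 2 * cy 3
  | true => cy 3 * cy 2

/-- A conjugate of one of them. -/
def piece (p : List ℕ × Bool) : P12 := valP p.1 * zP p.2 * (valP p.1)⁻¹

theorem gen_ok : ∀ l : Fin 6, (genTab.getD l.val []).all (fun p => clOK p.1 &&
      code (valP p.1 * cy 0 * (valP p.1)⁻¹) == code (cy 0) && (valP p.1 0).val == 0 && (valP p.1 1).val == 1) = true ∧
    code ((genTab.getD l.val []).map piece).prod = code (clP l) := by decide +kernel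

theorem chain_ok : ∀ k : Fin 5, ∀ a : Fin 12, 2 * k.val ≤ a.val →
    clOK ((chainTab.getD k.val []).getD a.val []) = true ∧
    (valP ((chainTab.getD k.val []).getD a.val []) (Fin.ofNat 12 (2 * k.val))).val = a.val ∧
    ∀ j : Fin 12, j.val < 2 * k.val → valP ((chainTab.getD k.val []).getD a.val []) j = j := by
  decide +kernel

theorem four_facts : ∃ z ∈ ([[], [0], [5], [0, 5]] : List (List ℕ)), ∃ z' ∈ ([[], [0], [5], [0, 5]] : List (List ℕ)),
    run [7] (code (valP ([0, 5] ++ [0]))) = some (code (valP z)) ∧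
    code (valP (([0, 5] ++ fW ++ fW) ++ z ++ [0])) = code (valP z') := by decide +kernel

theorem four_prod : ∀ z ∈ ([[], [0], [5], [0, 5]] : List (List ℕ)), valP z * valP z = 1 := by decide +kernel

theorem conj_cy_ok : ∀ l : Fin 6, (genTab.getD l.val []).all (fun p => (List.range 12).all fun i =>
    !decide (i == 2 || i == 3) || ((List.range 12).any fun j => decide (2 ≤ j) &&
      code (valP p.1 * cy (Fin.ofNat 12 i) * (valP p.1)⁻¹) == code (cy (Fin.ofNat 12 j)))) = true := by
  decide +kernel

theorem z32_ok : (run (winv (tw3 v2)) (code (cy 2 * cy 3))).isSome = true := by decide +kernel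

end Cfsg.Agent.AltTwelve.Gen
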