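import Cfsg.Agent.Lib.AltTwelve.Gen.Chart

/-!
# Comparing words

Adjacent segments in the centralizer are merged and inverse letters cancelled; two words with the same key
have the same value, and a rotation of a word with value one has value one.
-/

set_option autoImplicit false
set_option maxRecDepth 100000
set_option linter.unusedSectionVars false

namespace Cfsg.Agent.AltTwelve.Gen

open Cfsg.Agent.AltTwelve.Sp

universe u

/-- A word cut at the letters of order three. -/
abbrev Tok : Type := List ℕ × List (ℕ × List ℕ)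

/-- Prepend a letter. -/
def push (i : ℕ) : Tok → Tok
  | (h, t) =>
    if i < 6 then (i :: h, t)
    else
      match t with
      | (j, s) :: t' =>
        if code (valP h) == code 1 && (i == 6 && j == 7 || i == 7 && j == 6) then (s, t') else ([], (i, h) :: t)
      | [] => ([], (i, h) :: t)

/-- Cut and cancel. -/
def norm (w : List ℕ) : Tok := w.foldr push ([], [])

/-- What is compared. -/
def key (w : List ℕ) : ℕ × List (ℕ × ℕ) :=
  (code (valP (norm w).1), (norm w).2.map fun p => (p.1, code (valP p.2)))

/-- Rotations. -/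
def rot (k : ℕ) (w : List ℕ) : List ℕ := w.drop k ++ w.take k

/-- A word is the identity: it lies in the centralizer, or the given rotation of it is a given word. -/
def trivAt (bases : List (List ℕ)) (k : ℕ) (w : List ℕ) : Bool :=
  ((norm w).2.isEmpty && code (valP (norm w).1) == code 1) || (bases.map key).contains (key (rot k w))

variable {G : Type u} [Group G] {a g : G} {ψ : C0 →* G}

/-- The value of a cut word. -/
def tokVal (ψ : C0 →* G) (g : G) (t : Tok) : G × P12 :=
  val ψ g t.1 * (t.2.map fun p => val ψ g (p.1 :: p.2)).prod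

/-- The letters of the segments are small. -/
def TokOK (t : Tok) : Prop := (∀ i ∈ t.1, i < 6) ∧ ∀ p ∈ t.2, ∀ i ∈ p.2, i < 6

theorem seg_eq (ψ : C0 →* G) (g : G) {v w : List ℕ} (hv : ∀ i ∈ v, i < 6) (hw : ∀ i ∈ w, i < 6)
    (h : code (valP v) = code (valP w)) : val ψ g v = val ψ g w := by
  have e : clW v = clW w := Subtype.ext (by
    rw [(val_fst_cl ψ g v hv).2, (val_fst_cl ψ g w hw).2, code_injective h])
  rw [val_cl ψ g v hv, val_cl ψ g w hw, e]

theorem norm_sound (ψ : C0 →* G) (g : G) :
    ∀ w : List ℕ, tokVal ψ g (norm w) = val ψ g w ∧ TokOK (norm w)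
  | [] => by simp [norm, tokVal, val, TokOK]
  | i :: w => by
    obtain ⟨ih, ok1, ok2⟩ := norm_sound ψ g w
    rw [show norm (i :: w) = push i (norm w) from rfl, show val ψ g (i :: w) = st ψ g i * val ψ g w from rfl,
      ← ih]
    generalize norm w = t at ok1 ok2 ⊢
    obtain ⟨h, t⟩ := t
    unfold push
    by_cases hi : i < 6
    · simp only [if_pos hi]
      refine ⟨?_, fun j hj => ?_, ok2⟩
      · simp [tokVal, val, mul_assoc]
      · rcases List.mem_cons.1 hj with rfl | hj
        exacts [hi, ok1 j hj]
    simp only [if_neg hi]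
    have keep : tokVal ψ g ([], (i, h) :: t) = st ψ g i * tokVal ψ g (h, t) ∧ TokOK ([], (i, h) :: t) := by
      refine ⟨by simp [tokVal, val, mul_assoc], by simp, fun p hp => ?_⟩
      rcases List.mem_cons.1 hp with rfl | hp
      exacts [ok1, ok2 p hp]
    cases t with
    | nil => exact keep
    | cons p t' =>
      obtain ⟨j, s⟩ := p
      simp only
      split
      · next hc =>
        simp only [Bool.and_eq_true, Bool.or_eq_true, beq_iff_eq] at hc
        obtain ⟨h1, hij⟩ := hc
        refine ⟨?_, ok2 _ List.mem_cons_self, fun q hq => ok2 q (List.mem_cons_of_mem _ hq)⟩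
        have hh : val ψ g h = 1 := by
          rw [seg_eq ψ g ok1 (w := []) (by simp) (by simpa [valP] using h1)]
          rfl
        have hst : st ψ g i * st ψ g j = 1 := by
          rcases hij with ⟨rfl, rfl⟩ | ⟨rfl, rfl⟩ <;> simp [st]
        simp only [tokVal, List.map_cons, List.prod_cons, hh, one_mul]
        rw [show val ψ g (j :: s) = st ψ g j * val ψ g s from rfl, ← mul_assoc, ← mul_assoc, hst, one_mul]
      · exact keep

theorem key_sound (ψ : C0 →* G) (g : G) {v w : List ℕ} (h : key v = key w) :
    val ψ g v = val ψ g w := by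
  obtain ⟨e1, o1, p1⟩ := norm_sound ψ g v
  obtain ⟨e2, o2, p2⟩ := norm_sound ψ g w
  rw [← e1, ← e2, tokVal, tokVal]
  simp only [key, Prod.mk.injEq] at h
  congr 1
  · exact seg_eq ψ g o1 o2 h.1
  · congr 1
    obtain ⟨-, ht⟩ := h
    revert p1 p2 ht
    generalize (norm v).2 = l1
    generalize (norm w).2 = l2
    intro p1 p2 ht
    induction l1 generalizing l2 with
    | nil => cases l2 with
      | nil => rfl
      | cons _ _ => simp at ht
    | cons x l1 ih => cases l2 with
      | nil => simp at ht
      | cons y l2 =>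
        simp only [List.map_cons, List.cons.injEq, Prod.mk.injEq] at ht ⊢
        refine ⟨?_, ih _ (fun q hq => p1 q (List.mem_cons_of_mem _ hq))
          (fun q hq => p2 q (List.mem_cons_of_mem _ hq)) ht.2⟩
        rw [show val ψ g (x.1 :: x.2) = st ψ g x.1 * val ψ g x.2 from rfl,
          show val ψ g (y.1 :: y.2) = st ψ g y.1 * val ψ g y.2 from rfl, ht.1.1,
          seg_eq ψ g (p1 x List.mem_cons_self) (p2 y List.mem_cons_self) ht.1.2]

theorem trivAt_sound (ψ : C0 →* G) (g : G) {bases : List (List ℕ)} (hb : ∀ b ∈ bases, val ψ g b = 1)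
    {k : ℕ} {w : List ℕ} (h : trivAt bases k w = true) : val ψ g w = 1 := by
  simp only [trivAt, Bool.or_eq_true, Bool.and_eq_true, List.isEmpty_iff, beq_iff_eq,
    List.contains_iff_mem, List.mem_map] at h
  rcases h with ⟨h1, h2⟩ | ⟨b, hbm, hk⟩
  · obtain ⟨e, o, -⟩ := norm_sound ψ g w
    rw [← e, tokVal, h1, seg_eq ψ g o (w := []) (by simp) (by simpa [valP] using h2)]
    simp [val]
  · have e := (key_sound ψ g hk).symm.trans (hb b hbm)
    rw [rot, val_append] at e
    rw [← List.take_append_drop k w, val_append]
    exact mul_eq_one_comm.1 e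

theorem val_flatten (ψ : C0 →* G) (g : G) : ∀ l : List (List ℕ), val ψ g l.flatten = (l.map (val ψ g)).prod
  | [] => rfl
  | w :: l => by rw [List.flatten_cons, val_append, val_flatten ψ g l, List.map_cons, List.prod_cons]

end Cfsg.Agent.AltTwelve.Gen
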