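import Cfsg.Agent.Lib.AltTwelve.Gen.Code

/-!
# Words in the centralizer and the element of order three

Letters `0`–`5` are the generators of the centralizer (five exchanges of adjacent blocks and a flip), `6` and
`7` are the element of order three and its inverse. A word acts by conjugation on the centralizer as long as
the element of order three only meets its domain.
-/

set_option autoImplicit false
set_option maxRecDepth 100000
set_option linter.unusedSectionVars false

namespace Cfsg.Agent.AltTwelve.Gen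

open Equiv Cfsg.Agent.AltTwelve.Sp

universe u

/-- The generators of the centralizer. -/
def clP : Fin 6 → P12 :=
  ![swap 0 2 * swap 1 3, swap 2 4 * swap 3 5, swap 4 6 * swap 5 7, swap 6 8 * swap 7 9, swap 8 10 * swap 9 11,
    swap 0 1 * swap 2 3]

theorem clP_facts : ∀ i, Equiv.Perm.sign (clP i) = 1 ∧ clP i * al = al * clP i ∧ clP i * clP i = 1 := by
  decide +kernel

/-- A letter as a permutation. -/
def stP (i : ℕ) : P12 :=
  if h : i < 6 then clP ⟨i, h⟩ else if i = 6 then g12 else if i = 7 then g12⁻¹ else 1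

/-- A generator of the centralizer. -/
def clC (i : Fin 6) : C0 := ⟨clP i, mem_C0 (clP_facts i).1 (clP_facts i).2.1⟩

variable {G : Type u} [Group G]

/-- A letter in the group and as a permutation. -/
def st (ψ : C0 →* G) (g : G) (i : ℕ) : G × P12 :=
  if h : i < 6 then (ψ (clC ⟨i, h⟩), clP ⟨i, h⟩) else if i = 6 then (g, g12) else if i = 7 then (g⁻¹, g12⁻¹) else 1

theorem st_snd (ψ : C0 →* G) (g : G) (i : ℕ) : (st ψ g i).2 = stP i := by
  unfold st stP
  split_ifs <;> rfl

/-- The value of a word. -/
def val (ψ : C0 →* G) (g : G) (w : List ℕ) : G × P12 := (w.map (st ψ g)).prod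

/-- The permutation of a word. -/
def valP (w : List ℕ) : P12 := (w.map stP).prod

theorem val_snd (ψ : C0 →* G) (g : G) (w : List ℕ) : (val ψ g w).2 = valP w := by
  induction w with
  | nil => rfl
  | cons i w ih =>
    change ((st ψ g i) * val ψ g w).2 = stP i * valP w
    rw [Prod.snd_mul, st_snd, ih]

theorem val_append (ψ : C0 →* G) (g : G) (v w : List ℕ) : val ψ g (v ++ w) = val ψ g v * val ψ g w := by
  simp [val]

/-- A word in the generators of the centralizer as an element of it. -/
def clW : List ℕ → C0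
  | [] => 1
  | i :: w => (if h : i < 6 then clC ⟨i, h⟩ else 1) * clW w

theorem val_cl (ψ : C0 →* G) (g : G) : ∀ w : List ℕ, (∀ i ∈ w, i < 6) → val ψ g w = (ψ (clW w), (clW w).val)
  | [], _ => Prod.ext (map_one ψ).symm rfl
  | i :: w, h => by
    have hi := h i List.mem_cons_self
    change st ψ g i * val ψ g w = _
    rw [val_cl ψ g w fun j hj => h j (List.mem_cons_of_mem _ hj), st, dif_pos hi, clW, dif_pos hi, map_mul]
    rfl

/-- The number of the first conjugate of `al`. -/
def s1C : ℕ := code (g12 * al * g12⁻¹)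

/-- The number of `al`. -/
def alN : ℕ := code al

/-- Two numbers commute. -/
def cmC (c d : ℕ) : Bool := mulC c d == mulC d c

/-- The numbers of the letters. -/
def stN : ℕ → ℕ := fun i => code (stP i)

/-- The number of the inverse of a letter. -/
def siN : ℕ → ℕ := fun i => code (stP i)⁻¹

/-- The conjugate under a letter, if defined. -/
def step (i z : ℕ) : Option ℕ :=
  if i < 6 then some (mulC (mulC (stN i) z) (siN i))
  else
    let z' := mulC (mulC (stN i) z) (siN i)
    if i = 6 && cmC z s1C && cmC z' alN then some z'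
    else if i = 7 && cmC z' s1C && cmC z' alN then some z'
    else none

/-- The conjugate under a word, if defined. -/
def run : List ℕ → ℕ → Option ℕ
  | [], z => some z
  | i :: w, z => (run w z).bind (step i)

theorem cmC_iff (x y : P12) : cmC (code x) (code y) = true ↔ x * y = y * x := by
  rw [cmC, beq_iff_eq, ← code_mul, ← code_mul]
  exact code_injective.eq_iff

variable {a g : G} {ψ : C0 →* G}

/-- Conjugation by a word where it is defined. -/
theorem run_sound (D : Base a ψ g) : ∀ (w : List ℕ) (c : C0) (m : ℕ), run w (code c.val) = some m →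
    ∃ c' : C0, code c'.val = m ∧ c'.val = valP w * c.val * (valP w)⁻¹ ∧
      (val ψ g w).1 * ψ c * ((val ψ g w).1)⁻¹ = ψ c' := by
  intro w
  induction w with
  | nil =>
    intro c m h
    simp only [run, Option.some.injEq] at h
    exact ⟨c, h, by simp [valP], by simp [val]⟩
  | cons i w ih =>
    intro c m h
    simp only [run, Option.bind_eq_some_iff] at h
    obtain ⟨m', h1, h2⟩ := h
    obtain ⟨c1, rfl, e1, f1⟩ := ih c m' h1
    suffices ∃ c' : C0, code c'.val = m ∧ c'.val = stP i * c1.val * (stP i)⁻¹ ∧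
        (st ψ g i).1 * ψ c1 * ((st ψ g i).1)⁻¹ = ψ c' by
      obtain ⟨c', r1, r2, r3⟩ := this
      refine ⟨c', r1, ?_, ?_⟩
      · rw [r2, e1, show valP (i :: w) = stP i * valP w from rfl]
        group
      · rw [← r3, ← f1, show val ψ g (i :: w) = st ψ g i * val ψ g w from rfl, Prod.fst_mul]
        group
    have hcode : mulC (mulC (stN i) (code c1.val)) (siN i) = code (stP i * c1.val * (stP i)⁻¹) := by
      rw [code_mul, code_mul]; rfl
    unfold step at h2
    by_cases hi : i < 6
    · rw [if_pos hi, hcode, Option.some.injEq] at h2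
      have hs : stP i = (clC ⟨i, hi⟩).val := by rw [stP, dif_pos hi]; rfl
      refine ⟨clC ⟨i, hi⟩ * c1 * (clC ⟨i, hi⟩)⁻¹, ?_, ?_, ?_⟩
      · rw [← h2, hs]; rfl
      · rw [hs]; rfl
      · rw [st, dif_pos hi, map_mul, map_mul, map_inv]
    rw [if_neg hi] at h2
    simp only [hcode, Bool.and_eq_true, decide_eq_true_eq] at h2
    have hsgn : Equiv.Perm.sign (stP i * c1.val * (stP i)⁻¹) = 1 := by
      rw [map_mul, map_mul, map_inv, Equiv.Perm.mem_alternatingGroup.1 c1.2.1, mul_one, mul_inv_cancel]
    split_ifs at h2 with h6 h7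
    · obtain ⟨⟨rfl, hz⟩, hz'⟩ := h6
      let c' : C0 := ⟨stP 6 * c1.val * (stP 6)⁻¹, mem_C0 hsgn ((cmC_iff _ _).1 hz')⟩
      refine ⟨c', Option.some.inj h2, rfl, ?_⟩
      exact D.act c1 ((cmC_iff _ _).1 hz) c' rfl
    · obtain ⟨⟨rfl, hz⟩, hz'⟩ := h7
      let c' : C0 := ⟨stP 7 * c1.val * (stP 7)⁻¹, mem_C0 hsgn ((cmC_iff _ _).1 hz')⟩
      refine ⟨c', Option.some.inj h2, rfl, ?_⟩
      have e := D.act c' ((cmC_iff _ _).1 hz) c1 (by
        change c1.val = g12 * (g12⁻¹ * c1.val * g12⁻¹⁻¹) * g12⁻¹
        group)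
      change g⁻¹ * ψ c1 * g⁻¹⁻¹ = ψ c'
      rw [← e]
      group

end Cfsg.Agent.AltTwelve.Gen
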