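import Cfsg.Agent.Lib.AltTwelve.Gen.Step

/-!
# Tables: conjugating words
-/

set_option autoImplicit false

namespace Cfsg.Agent.AltTwelve.Gen

/-- Words carrying the element of order three to the three-cycle `0 1 i`, from `i = 2`. -/
def xTab : List (List ℕ) := [[0, 1, 5, 1], [0], [5, 1, 5, 0], [1, 0], [5, 2, 1, 5, 0], [2, 1, 0], [5, 3, 2, 1, 5, 0], [3, 2, 1, 0], [5, 4, 3, 2, 1, 5, 0], [4, 3, 2, 1, 0]]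

/-- Words carrying a pair of the three-cycles to one of the four basic pairs. -/
def kTab : List (ℕ × ℕ × List ℕ × ℕ × ℕ) :=
  [(2, 3, [], 2, 3),
   (2, 4, [], 2, 4),
   (2, 5, [5, 2, 1, 5, 1, 2, 1], 4, 2),
   (2, 6, [2], 2, 4),
   (2, 7, [5, 2, 1, 5, 2, 1], 4, 2),
   (2, 8, [2, 3], 2, 4),
   (2, 9, [5, 2, 1, 5, 2, 3, 1], 4, 2),
   (2, 10, [2, 3, 4], 2, 4),
   (2, 11, [5, 2, 1, 5, 2, 3, 4, 1], 4, 2),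
   (3, 2, [], 3, 2),
   (3, 4, [5, 2, 1, 5, 1, 2], 2, 4),
   (3, 5, [5, 1, 5], 4, 2),
   (3, 6, [5, 2, 1, 5, 1], 2, 4),
   (3, 7, [5, 1, 5, 2], 4, 2),
   (3, 8, [5, 2, 1, 5, 3, 1], 2, 4),
   (3, 9, [5, 1, 5, 2, 3], 4, 2),
   (3, 10, [5, 2, 1, 5, 3, 4, 1], 2, 4),
   (3, 11, [5, 1, 5, 2, 3, 4], 4, 2),
   (4, 2, [], 4, 2),
   (4, 3, [5, 2, 1, 5, 1, 2], 4, 2),
   (4, 5, [1], 2, 3),
   (4, 6, [2, 1], 2, 4),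
   (4, 7, [5, 2, 1, 5, 2], 4, 2),
   (4, 8, [2, 3, 1], 2, 4),
   (4, 9, [5, 2, 1, 5, 2, 3], 4, 2),
   (4, 10, [2, 3, 4, 1], 2, 4),
   (4, 11, [5, 2, 1, 5, 2, 3, 4], 4, 2),
   (5, 2, [5, 2, 1, 5, 1, 2, 1], 2, 4),
   (5, 3, [5, 1, 5], 2, 4),
   (5, 4, [1], 3, 2),
   (5, 6, [5, 2, 1, 5], 2, 4),
   (5, 7, [5, 1, 5, 2, 1], 4, 2),
   (5, 8, [5, 2, 1, 5, 3], 2, 4),
   (5, 9, [5, 1, 5, 2, 3, 1], 4, 2),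
   (5, 10, [5, 2, 1, 5, 3, 4], 2, 4),
   (5, 11, [5, 1, 5, 2, 3, 4, 1], 4, 2),
   (6, 2, [2], 4, 2),
   (6, 3, [5, 2, 1, 5, 1], 4, 2),
   (6, 4, [2, 1], 4, 2),
   (6, 5, [5, 2, 1, 5], 4, 2),
   (6, 7, [1, 2], 2, 3),
   (6, 8, [2, 3, 1, 2], 2, 4),
   (6, 9, [5, 2, 1, 5, 2, 3, 2], 4, 2),
   (6, 10, [2, 3, 4, 1, 2], 2, 4),
   (6, 11, [5, 2, 1, 5, 2, 3, 4, 2], 4, 2),
   (7, 2, [5, 2, 1, 5, 2, 1], 2, 4),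
   (7, 3, [5, 1, 5, 2], 2, 4),
   (7, 4, [5, 2, 1, 5, 2], 2, 4),
   (7, 5, [5, 1, 5, 2, 1], 2, 4),
   (7, 6, [1, 2], 3, 2),
   (7, 8, [5, 2, 1, 5, 3, 2], 2, 4),
   (7, 9, [5, 1, 5, 2, 3, 1, 2], 4, 2),
   (7, 10, [5, 2, 1, 5, 3, 4, 2], 2, 4),
   (7, 11, [5, 1, 5, 2, 3, 4, 1, 2], 4, 2),
   (8, 2, [2, 3], 4, 2),
   (8, 3, [5, 2, 1, 5, 3, 1], 4, 2),
   (8, 4, [2, 3, 1], 4, 2),
   (8, 5, [5, 2, 1, 5, 3], 4, 2),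
   (8, 6, [2, 3, 1, 2], 4, 2),
   (8, 7, [5, 2, 1, 5, 3, 2], 4, 2),
   (8, 9, [1, 2, 3], 2, 3),
   (8, 10, [2, 3, 4, 1, 2, 3], 2, 4),
   (8, 11, [5, 2, 1, 5, 2, 3, 4, 2, 3], 4, 2),
   (9, 2, [5, 2, 1, 5, 2, 3, 1], 2, 4),
   (9, 3, [5, 1, 5, 2, 3], 2, 4),
   (9, 4, [5, 2, 1, 5, 2, 3], 2, 4),
   (9, 5, [5, 1, 5, 2, 3, 1], 2, 4),
   (9, 6, [5, 2, 1, 5, 2, 3, 2], 2, 4),
   (9, 7, [5, 1, 5, 2, 3, 1, 2], 2, 4),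
   (9, 8, [1, 2, 3], 3, 2),
   (9, 10, [5, 2, 1, 5, 3, 4, 2, 3], 2, 4),
   (9, 11, [5, 1, 5, 2, 3, 4, 1, 2, 3], 4, 2),
   (10, 2, [2, 3, 4], 4, 2),
   (10, 3, [5, 2, 1, 5, 3, 4, 1], 4, 2),
   (10, 4, [2, 3, 4, 1], 4, 2),
   (10, 5, [5, 2, 1, 5, 3, 4], 4, 2),
   (10, 6, [2, 3, 4, 1, 2], 4, 2),
   (10, 7, [5, 2, 1, 5, 3, 4, 2], 4, 2),
   (10, 8, [2, 3, 4, 1, 2, 3], 4, 2),
   (10, 9, [5, 2, 1, 5, 3, 4, 2, 3], 4, 2),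
   (10, 11, [1, 2, 3, 4], 2, 3),
   (11, 2, [5, 2, 1, 5, 2, 3, 4, 1], 2, 4),
   (11, 3, [5, 1, 5, 2, 3, 4], 2, 4),
   (11, 4, [5, 2, 1, 5, 2, 3, 4], 2, 4),
   (11, 5, [5, 1, 5, 2, 3, 4, 1], 2, 4),
   (11, 6, [5, 2, 1, 5, 2, 3, 4, 2], 2, 4),
   (11, 7, [5, 1, 5, 2, 3, 4, 1, 2], 2, 4),
   (11, 8, [5, 2, 1, 5, 2, 3, 4, 2, 3], 2, 4),
   (11, 9, [5, 1, 5, 2, 3, 4, 1, 2, 3], 2, 4),
   (11, 10, [1, 2, 3, 4], 3, 2)]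

/-- The generators of the centralizer as products of conjugates of two products of three-cycles. -/
def genTab : List (List (List ℕ × Bool)) :=
  [[([], false)],
   [([], false), ([1], false), ([], false)],
   [([1], false), ([2, 1], false), ([1], false)],
   [([2, 1], false), ([3, 2, 1], false), ([2, 1], false)],
   [([3, 2, 1], false), ([4, 3, 2, 1], false), ([3, 2, 1], false)],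
   [([], false), ([], true)]]

/-- A stabilizer chain. -/
def chainTab : List (List (List ℕ)) :=
  [[[], [5], [0], [5, 0], [1, 0], [1, 5, 0], [2, 1, 0], [2, 1, 5, 0], [3, 2, 1, 0], [3, 2, 1, 5, 0], [4, 3, 2, 1, 0], [4, 3, 2, 1, 5, 0]],
   [[], [], [], [5, 1, 5, 1], [1], [5, 1, 5], [2, 1], [5, 2, 1, 5], [3, 2, 1], [5, 3, 2, 1, 5], [4, 3, 2, 1], [5, 4, 3, 2, 1, 5]],
   [[], [], [], [], [], [1, 5, 2, 1, 5, 1, 2, 1], [2], [1, 5, 2, 1, 5, 2, 1], [3, 2], [1, 5, 3, 2, 1, 5, 2, 1], [4, 3, 2], [1, 5, 4, 3, 2, 1, 5, 2, 1]],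
   [[], [], [], [], [], [], [], [2, 1, 5, 3, 2, 1, 5, 1, 2, 3, 1, 2], [3], [2, 1, 5, 3, 2, 1, 5, 2, 3, 1, 2], [4, 3], [2, 1, 5, 4, 3, 2, 1, 5, 2, 3, 1, 2]],
   [[], [], [], [], [], [], [], [], [], [3, 2, 1, 5, 4, 3, 2, 1, 5, 1, 2, 3, 4, 1, 2, 3], [4], [3, 2, 1, 5, 4, 3, 2, 1, 5, 2, 3, 4, 1, 2, 3]]]

end Cfsg.Agent.AltTwelve.Gen
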